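import Cfsg.Agent.Mult.Cl3
import Cfsg.Agent.Mult.SL
import Cfsg.Agent.Classical.LowIso
import Cfsg.Agent.Classical.SL2CharDeg
import Cfsg.Agent.S0244

/-! Transfer lemmas for `HasSt` (isomorphisms, products, central quotients), the groups `PSL 2`, `Sp 2 = SL 2`. -/

set_option autoImplicit false

namespace Cfsg.Agent.Mult

open Cfsg.Agent.Char Matrix
open scoped _root_.Classical MatrixGroups

section
variable {p : ℕ} [hp : Fact p.Prime] {G H : Type*} [Group G] [Group H] [Finite G] [Finite H]

theorem HasSt.deg (h : HasSt p G) :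
    ∃ χ : G → ℂ, IsIrrCharacter G χ ∧ χ 1 = (p ^ (Nat.card G).factorization p : ℕ) :=
  let ⟨χ, h1, h2⟩ := h
  ⟨χ, h1, by rw [(h2 default).1, Sylow.card_eq_multiplicity]⟩

theorem HasSt.of_surj (h : HasSt p H) (φ : G →* H) (hφ : Function.Surjective φ)
    (hc : (Nat.card G).factorization p = (Nat.card H).factorization p) : HasSt p G :=
  let ⟨_, h1, h2⟩ := h.deg
  hasSt_of (h1.comp_of_surjective φ hφ) (by simp only [map_one, h2, hc])

theorem HasSt.of_equiv (h : HasSt p H) (e : G ≃* H) : HasSt p G :=
  h.of_surj e.toMonoidHom e.surjective (by rw [Nat.card_congr e.toEquiv])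

theorem HasSt.prod (h : HasSt p G) (h' : HasSt p H) : HasSt p (G × H) :=
  let ⟨_, h1, h2⟩ := h.deg
  let ⟨_, h3, h4⟩ := h'.deg
  hasSt_of (h1.prod h3) (by
    simp only [Prod.fst_one, Prod.snd_one, h2, h4, Nat.card_prod]
    rw [Nat.factorization_mul Nat.card_pos.ne' Nat.card_pos.ne', Finsupp.add_apply, pow_add, Nat.cast_mul])

theorem hasSt_of_not_dvd (h : ¬ p ∣ Nat.card G) : HasSt p G :=
  hasSt_of isIrrCharacter_one (by simp [Nat.factorization_eq_zero_of_not_dvd h])

theorem HasSt.quot (h : HasSt p H) (φ : G →* H) (hφ : Function.Surjective φ) (hZ : Subgroup.center H = ⊥)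
    (hc : (Nat.card G).factorization p ≤ (Nat.card H).factorization p) : HasSt p (G ⧸ Subgroup.center G) := by
  have h1 : Subgroup.center G ≤ φ.ker := fun z hz => hZ.le (Subgroup.mem_center_iff.2 fun y => by
    obtain ⟨y, rfl⟩ := hφ y
    rw [← map_mul, Subgroup.mem_center_iff.1 hz, map_mul])
  have h2 := QuotientGroup.lift_surjective_of_surjective _ φ hφ h1
  refine h.of_surj _ h2 (le_antisymm (le_trans ?_ hc) ?_) <;>
    refine Nat.factorization_le_factorization_of_dvd_right ?_ Nat.card_pos.ne' Nat.card_pos.ne'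
  exacts [Subgroup.card_quotient_dvd_card _, Subgroup.card_dvd_of_surjective _ h2]

theorem center_prod_eq_bot (h : Subgroup.center G = ⊥) (h' : Subgroup.center H = ⊥) :
    Subgroup.center (G × H) = ⊥ := eq_bot_iff.2 fun g hg =>
  Prod.ext (h.le (Subgroup.mem_center_iff.2 fun x => congrArg Prod.fst (Subgroup.mem_center_iff.1 hg (x, 1))))
    (h'.le (Subgroup.mem_center_iff.2 fun x => congrArg Prod.snd (Subgroup.mem_center_iff.1 hg (1, x))))

omit [Finite G] in
theorem commutator_le_of_index {K : Subgroup G} (h : K.index = 2) : commutator G ≤ K := by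
  rw [commutator_def, Subgroup.commutator_le]
  intro a _ b _
  simp only [commutatorElement_def, Subgroup.mul_mem_iff_of_index_two h, inv_mem_iff]
  tauto

theorem hasSt_of_index_two (hS : Nat.card H = 6) (hZ : Subgroup.center H = ⊥) (h : HasSt 2 H) (f : H × H →* G)
    (hf : Function.Injective f) (hO : Nat.card G = 72) :
    HasSt 2 (commutator G ⧸ Subgroup.center (commutator G)) := by
  have h1 : commutator G ≤ f.range := commutator_le_of_index (by
    have := f.range.index_mul_card
    rw [← Nat.card_congr (MonoidHom.ofInjective hf).toEquiv, Nat.card_prod, hS] at this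
    omega)
  have h2 : Nat.card (commutator H) = 3 := by
    obtain ⟨N, hN⟩ := Sylow.exists_subgroup_card_pow_prime (G := H) 3 (n := 1) (by simp [hS])
    refine ((Nat.dvd_prime Nat.prime_three).1 (pow_one 3 ▸ hN ▸ Subgroup.card_dvd_of_le (commutator_le_of_index
      (by have := N.index_mul_card; rw [hN] at this; omega)))).resolve_left fun e => ?_
    rw [Subgroup.card_eq_one, commutator_eq_bot_iff_center_eq_top, hZ] at e
    have := Subgroup.card_top (G := H)
    rw [← e, Subgroup.card_bot] at this
    omega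
  have h3 : 9 ∣ Nat.card ((commutator G).comap f) := by
    have h4 : (commutator H).prod (commutator H) ≤ (commutator G).comap f := by
      rw [commutator_def, ← Subgroup.commutator_prod_prod, ← Subgroup.map_le_iff_le_comap, Subgroup.map_commutator]
      exact Subgroup.commutator_mono le_top le_top
    have := Subgroup.card_dvd_of_le h4
    rwa [Nat.card_congr (Subgroup.prodEquiv _ _).toEquiv, Nat.card_prod, h2] at this
  refine HasSt.of_equiv ?_ (Geom.quotCenterCongr (((MulEquiv.subgroupCongr (Subgroup.map_comap_eq_self h1)).symm.trans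
    (Subgroup.equivMapOfInjective _ _ hf).symm)))
  generalize (commutator G).comap f = K at h3
  have h4 := K.card_subgroup_dvd_card
  rw [Nat.card_prod, hS] at h4
  obtain ⟨c, hc⟩ := h3
  have h5 : c ∣ 2 ^ 2 := Nat.dvd_of_mul_dvd_mul_left (by decide : 0 < 9) (hc ▸ h4)
  obtain ⟨k, hk, rfl⟩ := (Nat.dvd_prime_pow Nat.prime_two).1 h5
  have key : ∀ φ : K →* H, ¬ Function.Surjective φ → Nat.card φ.range ≤ 3 := fun φ e => by
    have h6 := φ.range.index_mul_card
    have h7 : φ.range.index ≠ 1 := by rwa [Ne, Subgroup.index_eq_one, MonoidHom.range_eq_top]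
    have h8 : φ.range.index ≠ 0 := Subgroup.index_ne_zero_of_finite
    have : 2 * Nat.card φ.range ≤ _ := Nat.mul_le_mul_right _ (by omega : 2 ≤ φ.range.index)
    omega
  interval_cases k
  · exact hasSt_of_not_dvd fun e => by have := e.trans (Subgroup.card_quotient_dvd_card _); omega
  · have h6 : (Nat.card K).factorization 2 ≤ (Nat.card H).factorization 2 := by
      rw [hc, hS, Nat.factorization_mul (by decide) (by decide), show 6 = 3 * 2 ^ 1 from rfl,
        Nat.factorization_mul (by decide) (by decide), Finsupp.add_apply, Finsupp.add_apply,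
        Nat.factorization_eq_zero_of_not_dvd (by decide), Nat.factorization_eq_zero_of_not_dvd (n := 3) (by decide)]
    by_cases e1 : Function.Surjective ((MonoidHom.fst H H).comp K.subtype)
    · exact h.quot _ e1 hZ h6
    by_cases e2 : Function.Surjective ((MonoidHom.snd H H).comp K.subtype)
    · exact h.quot _ e2 hZ h6
    have := Nat.card_le_card_of_injective (fun x : K => ((MonoidHom.rangeRestrict ((MonoidHom.fst H H).comp K.subtype) x,
      MonoidHom.rangeRestrict ((MonoidHom.snd H H).comp K.subtype) x))) fun x y e =>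
        Subtype.ext (Prod.ext (congrArg (·.1.1) e) (congrArg (·.2.1) e))
    have := Nat.mul_le_mul (key _ e1) (key _ e2)
    rw [Nat.card_prod] at *
    omega
  · have h6 : K = ⊤ := Subgroup.eq_top_of_card_eq _ (by rw [hc, Nat.card_prod, hS]; rfl)
    subst h6
    exact (h.prod h).quot (Subgroup.subtype ⊤) (fun x => ⟨⟨x, trivial⟩, rfl⟩) (center_prod_eq_bot hZ hZ) (by rw [Subgroup.card_top])

end

variable (F : Type*) [Field F]

/-- `Sp 2 = SL 2`. -/
def spOne : symplecticGroup (Fin 1) F ≃* SL(2, F) where
  toFun g := ⟨reindex finSumFinEquiv finSumFinEquiv g.1, by rw [det_reindex_self, SymplecticGroup.det_eq_one g.2]⟩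
  invFun g := ⟨reindex finSumFinEquiv.symm finSumFinEquiv.symm g.1,
    (S0244.result _).2 (by rw [det_reindex_self, g.2])⟩
  left_inv _ := by simp
  right_inv _ := Subtype.ext (by simp)
  map_mul' a b := Subtype.ext (submatrix_mul_equiv a.1 b.1 _ finSumFinEquiv.symm _).symm

variable [Finite F] (p : ℕ) [hp : Fact p.Prime] [CharP F p]

theorem pow_fact_SL2 : p ^ (Nat.card SL(2, F)).factorization p = Nat.card F := by
  haveI := Fintype.ofFinite F
  obtain ⟨n, -, hn⟩ := FiniteField.card F p
  have h1 := Classical.not_char_dvd_card_pred F p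
  have h2 : ¬ p ∣ Nat.card F + 1 := fun h => hp.out.not_dvd_one ((Nat.dvd_add_right (Classical.char_dvd_card F p)).1 h)
  rw [Classical.card_SL2, mul_assoc, Nat.factorization_mul Nat.card_pos.ne' fun e => by simp_all, Finsupp.add_apply,
    Nat.factorization_eq_zero_of_not_dvd (mt hp.out.dvd_mul.1 (not_or.2 ⟨h1, h2⟩)), Nat.card_eq_fintype_card, hn,
    Nat.factorization_pow_self hp.out, add_zero]

theorem hasSt_SL2 : HasSt p SL(2, F) := by
  haveI := Fintype.ofFinite F
  exact hasSt_of Classical.isIrr_Sts (by rw [pow_fact_SL2, Classical.Sts_one, Nat.card_eq_fintype_card])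

theorem hasSt_PSL2 : HasSt p PSL(2, F) := by
  haveI := Fintype.ofFinite F
  obtain ⟨φ, h1, h2⟩ := Classical.exists_irr_PSL (Classical.isIrr_Sts (F := F))
    (by rw [Classical.Sts_scal Classical.isScal_neg_one, Classical.Sts_one])
  have h3 := Classical.card_PSL_mul (ι := Fin 2) (F := F)
  refine hasSt_of h1 ?_
  rw [← map_one (Classical.pslMk F), h2, Classical.Sts_one, ← Nat.card_eq_fintype_card, ← pow_fact_SL2 F p, ← h3,
    Nat.factorization_mul (by simp) Nat.card_pos.ne', Finsupp.add_apply, Nat.factorization_eq_zero_of_not_dvd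
      fun h => Classical.not_char_dvd_card_pred F p (h.trans (Nat.gcd_dvd_right _ _)), zero_add]

end Cfsg.Agent.Mult
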