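import Cfsg.Agent.Elu.Lin
import Cfsg.Agent.Mult.St3

/-! Semisimple and unipotent elements of `GL n`, `SL n`, `Sp (2 n)` over a finite field. -/

set_option autoImplicit false

namespace Cfsg.Agent.Mult

open Cfsg.Agent.Classical Matrix Polynomial UniqueFactorizationMonoid
open scoped _root_.Classical MatrixGroups

variable {F : Type*} [Field F] [Finite F] (p : ℕ) [hp : Fact p.Prime] [CharP F p] {ι : Type*} [Fintype ι]
  [DecidableEq ι]

theorem card_monic_coeff (n : ℕ) (S : F → Prop) :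
    Nat.card {f : F[X] // f.Monic ∧ f.natDegree = n + 1 ∧ S (f.coeff 0)} = Nat.card {c // S c} * Nat.card F ^ n := by
  have h1 : Nat.card {f : F[X] // f.Monic ∧ f.natDegree = n} = Nat.card F ^ n := by
    rw [Nat.card_congr ((monicEquivDegreeLT n).trans (degreeLTEquiv F n).toEquiv), Nat.card_fun, Nat.card_fin]
  rw [← h1, ← Nat.card_prod]
  refine (Nat.card_congr (Equiv.ofBijective (fun x => ⟨x.2.1 * X + C x.1.1,
    (x.2.2.1.mul monic_X).add_of_left (degree_C_le.trans_lt (by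
      rw [← natDegree_pos_iff_degree_pos, natDegree_mul_X x.2.2.1.ne_zero]; omega)),
    by rw [natDegree_add_C, natDegree_mul_X x.2.2.1.ne_zero, x.2.2.2], by simpa using x.1.2⟩)
    ⟨fun x y e => ?_, fun f => ⟨(⟨_, f.2.2.2⟩, ⟨f.1.divX, ?_, ?_⟩), Subtype.ext (divX_mul_X_add _)⟩⟩)).symm
  · have h := congrArg Subtype.val e
    have h2 : x.1.1 = y.1.1 := by simpa using congrArg (coeff · 0) h
    exact Prod.ext (Subtype.ext h2) (Subtype.ext (by simpa [h2] using h))
  · rw [Monic, leadingCoeff, natDegree_divX_eq_natDegree_tsub_one, coeff_divX, f.2.2.1, Nat.add_sub_cancel]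
    exact (congrArg _ f.2.2.1).symm.trans f.2.1.coeff_natDegree
  · rw [natDegree_divX_eq_natDegree_tsub_one, f.2.2.1, Nat.add_sub_cancel]

theorem prod_elemDiv (A : Matrix ι ι F) : (elemDiv (toLin' A)).prod = A.charpoly := by
  rw [← Elu.charpoly_eq_prod, charpoly_toLin']

theorem irr_of_coprime {g : GL ι F} (h : (orderOf g).Coprime p) {a : F[X]} (ha : a ∈ elemDiv (toLin' g.1)) :
    Irreducible a ∧ a.Monic :=
  (isPP_of_mem ha).irreducible_of_dvd (Elu.squarefree_X_pow_sub_one fun e =>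
    hp.out.not_dvd_one (h ▸ Nat.dvd_gcd ((CharP.cast_eq_zero_iff F p _).1 e) dvd_rfl))
    (aeval_mat_eq_zero_iff.1 ((GL_pow_eq_one_iff g _).1 (pow_orderOf_eq_one g)) a ha)

theorem elemDiv_of_coprime {g : GL ι F} (h : (orderOf g).Coprime p) :
    elemDiv (toLin' g.1) = normalizedFactors g.1.charpoly := by
  rw [← prod_elemDiv, normalizedFactors_prod_eq _ fun _ ha => (irr_of_coprime p h ha).1,
    Multiset.map_congr rfl fun _ ha => (irr_of_coprime p h ha).2.normalize_eq_self, Multiset.map_id']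

theorem isConj_of_charpoly {g h : GL ι F} (hg : (orderOf g).Coprime p) (hh : (orderOf h).Coprime p)
    (e : g.1.charpoly = h.1.charpoly) : IsConj g h :=
  isConj_GL_iff_elemDiv.2 (by rw [elemDiv_of_coprime p hg, elemDiv_of_coprime p hh, e])

omit [Finite F] in
theorem charpoly_of_isConj {G : Type*} [Group G] (φ : G →* Matrix ι ι F) {g h : G} (e : IsConj g h) :
    (φ g).charpoly = (φ h).charpoly := by
  obtain ⟨c, rfl⟩ := isConj_iff.1 e
  rw [map_mul, charpoly_mul_comm, ← map_mul, inv_mul_cancel_left]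

/-- The semisimple part has the same characteristic polynomial. -/
theorem exists_coprime_charpoly {G : Type*} [Group G] [Finite G] (φ : G →* Matrix ι ι F) (g : G) :
    ∃ s, (orderOf s).Coprime p ∧ (φ s).charpoly = (φ g).charpoly := by
  haveI := Fintype.ofFinite F
  obtain ⟨n, -, hn⟩ := FiniteField.card F p
  obtain ⟨k, m, hm, e⟩ := Nat.exists_eq_pow_mul_and_not_dvd (orderOf_pos g).ne' p hp.out.ne_one
  refine ⟨g ^ Fintype.card F ^ k, ((Nat.Prime.coprime_iff_not_dvd hp.out).2 hm).symm.coprime_dvd_left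
    (orderOf_dvd_of_pow_eq_one ?_), ?_⟩
  · rw [← pow_mul, ← orderOf_dvd_iff_pow_eq_one, e, hn, ← pow_mul]
    exact Nat.mul_dvd_mul_right (pow_dvd_pow _ (Nat.le_mul_of_pos_left _ n.pos)) _
  · clear e
    induction k with
    | zero => simp
    | succ k ih => rw [pow_succ, pow_mul, map_pow, FiniteField.Matrix.charpoly_pow_card, ih]

theorem exists_GL_charpoly {f : F[X]} (hf : f.Monic) (hd : f.natDegree = Fintype.card ι) (h0 : f.coeff 0 ≠ 0) :
    ∃ g : GL ι F, g.1.charpoly = f := by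
  have h1 := irreducible_of_normalized_factor (a := f)
  have h2 : (normalizedFactors f).prod = f := by rw [prod_normalizedFactors_eq hf.ne_zero, hf.normalize_eq_self]
  have h3 : ∀ a ∈ normalizedFactors f, a.Monic := fun a ha =>
    normalize_normalized_factor a ha ▸ monic_normalize (h1 a ha).ne_zero
  obtain ⟨g, hg⟩ := exists_GL_elemDiv_eq (ι := ι) (D := normalizedFactors f)
    (fun a ha => isPP_of_irreducible (h1 a ha) (h3 a ha)) (fun a ha => ((irreducible_X.coprime_iff_not_dvd).2 fun e =>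
      h0 (X_dvd_iff.1 (e.trans (dvd_of_mem_normalizedFactors ha)))).symm)
    (by rw [← natDegree_multiset_prod_of_monic _ h3, h2, hd])
  exact ⟨g, by rw [← prod_elemDiv, hg, h2]⟩

theorem isConj_SL_of_charpoly {g h : SpecialLinearGroup ι F} (hg : (orderOf g).Coprime p)
    (hh : (orderOf h).Coprime p) (e : g.1.charpoly = h.1.charpoly) : IsConj g h := by
  have h1 := fun x : SpecialLinearGroup ι F => orderOf_injective _ SpecialLinearGroup.toGL_injective x
  rw [← h1] at hg hh
  by_cases h0 : elemDiv (toLin' g.1) = 0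
  · have h2 := sum_natDegree_elemDiv_mat g.1
    rw [h0, Multiset.map_zero, Multiset.sum_zero, eq_comm, Fintype.card_eq_zero_iff] at h2
    rw [show g = h from Subtype.ext (Subsingleton.elim _ _)]
  obtain ⟨a, ha⟩ := Multiset.exists_mem_of_ne_zero h0
  exact isConj_SL_of_mem (irr_of_coprime p hg ha).1 ha (isConj_units_iff.1 (isConj_of_charpoly p hg hh e))

theorem card_ss_SL (n : ℕ) : Nat.card {c : ConjClasses SL(n + 1, F) //
    ∃ g, ConjClasses.mk g = c ∧ (orderOf g).Coprime p} = Nat.card F ^ n := by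
  rw [card_classes_of_inv _ (fun g => g.1.charpoly) (fun f => f.Monic ∧ f.natDegree = n + 1 ∧ f.coeff 0 = (-1) ^ (n + 1))
    (fun g h hg hh => ⟨charpoly_of_isConj (slMat _ F), isConj_SL_of_charpoly p hg hh⟩),
    card_monic_coeff n (· = (-1) ^ (n + 1)), Nat.card_unique, one_mul]
  refine fun f => ⟨fun ⟨h1, h2, h3⟩ => ?_, ?_⟩
  · obtain ⟨g, rfl⟩ := exists_GL_charpoly (ι := Fin (n + 1)) h1 (by simp [h2]) (by simp [h3])
    exact exists_coprime_charpoly p (slMat _ F) ⟨g.1, by
      rw [det_eq_sign_charpoly_coeff, h3, Fintype.card_fin, ← mul_pow]; simp⟩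
  · rintro ⟨g, -, rfl⟩
    refine ⟨charpoly_monic _, by simp, ?_⟩
    have := det_eq_sign_charpoly_coeff g.1
    rw [g.2, Fintype.card_fin] at this
    have h2 : ((-1 : F) ^ (n + 1)) ^ 2 = 1 := by rw [← pow_mul, mul_comm, pow_mul]; simp
    grind

omit [Finite F] in
theorem unip_iff {G : Type*} [Group G] (φ : G →* Matrix ι ι F) (hφ : Function.Injective φ) (g : G) :
    (∃ k, orderOf g = p ^ k) ↔ IsNilpotent (φ g - 1) := by
  have h1 : ∀ k, (φ g - 1) ^ p ^ k = φ (g ^ p ^ k) - 1 := fun k => by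
    cases isEmpty_or_nonempty ι
    · exact Subsingleton.elim _ _
    rw [sub_pow_char_pow_of_commute _ _ (Commute.one_right _), one_pow, map_pow]
  refine ⟨fun ⟨k, e⟩ => ⟨_, by rw [h1 k, ← e, pow_orderOf_eq_one, map_one, sub_self]⟩, fun ⟨k, e⟩ => ?_⟩
  obtain ⟨j, -, h⟩ := (Nat.dvd_prime_pow hp.out).1 (orderOf_dvd_of_pow_eq_one (hφ (show φ (g ^ p ^ k) = φ 1 by
    rw [map_one, ← sub_eq_zero, ← h1, pow_eq_zero_of_le (Nat.lt_pow_self hp.out.one_lt).le e])))
  exact ⟨j, h⟩

theorem card_unip_SL2 : Nat.card {g : SL(2, F) // ∃ k, orderOf g = p ^ k} = Nat.card F ^ 2 := by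
  have h1 : ∀ g : SL(2, F), (∃ k, orderOf g = p ^ k) ↔ g.1.trace = 2 := fun g => ⟨fun ⟨k, e⟩ =>
    (m2_unip_of_pow p (n := k) (congrArg Subtype.val (e ▸ pow_orderOf_eq_one g :))).1, fun h =>
      ((Nat.dvd_prime_pow hp.out (m := 1)).1 (by
        simpa using orderOf_dvd_of_pow_eq_one ((sl_pow_char_eq_one_iff p).2 h))).imp fun _ h => h.2⟩
  simp only [h1]
  rw [sq, ← Nat.card_prod]
  refine (Nat.card_congr (Equiv.ofBijective (fun x : F × F => if h : x.2 = 0 then ⟨lSL x.1, by simp [lSL]; norm_num⟩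
    else ⟨⟨!![1 + x.1, x.2; -x.1 ^ 2 / x.2, 1 - x.1], by simp [field]; ring⟩, by simp; ring⟩)
    ⟨?_, ?_⟩)).symm
  · rintro ⟨a, b⟩ ⟨c, d⟩ e
    have h2 := fun i j => congrArg (fun x : {g : SL(2, F) // g.1.trace = 2} => x.1.1 i j) e
    have h3 := h2 0 0; have h4 := h2 0 1; have h5 := h2 1 0
    clear e h2
    by_cases h : b = 0 <;> by_cases h' : d = 0 <;> simp [h, h', lSL] at h3 h4 h5 ⊢ <;> grind
  · rintro ⟨⟨g, h2⟩, h3⟩
    have h4 := (det_fin_two g).symm.trans h2
    have h5 := (trace_fin_two g).symm.trans h3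
    by_cases h : g 0 1 = 0
    · refine ⟨(g 1 0, 0), ?_⟩
      have : g 0 0 = 1 := by rw [← sub_eq_zero, ← sq_eq_zero_iff]; grind
      ext i j; fin_cases i <;> fin_cases j <;> simp [lSL] <;> grind
    · refine ⟨(g 0 0 - 1, g 0 1), ?_⟩
      ext i j; fin_cases i <;> fin_cases j <;> simp [h] <;> grind

theorem card_RC (l : ℕ) : Fintype.card (cdC l).R = 2 * l ^ 2 := by
  have h : ∑ i : Fin l, ∑ j : Fin l, ((if i < j ∨ i = j then 1 else 0) + if j < i then 1 else 0) = l ^ 2 := by
    rw [Finset.sum_congr rfl fun i _ => Finset.sum_congr rfl fun j _ => show _ = 1 by split_ifs <;> omega]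
    simp [sq]
  simp only [Finset.sum_add_distrib] at h
  rw [Finset.sum_comm (f := fun i j => if j < i then 1 else 0)] at h
  rw [Fintype.card_subtype, Finset.card_filter, Fintype.sum_prod_type]
  simp only [Fintype.sum_sum_type, cdH, ix0, Sum.elim_inl, Sum.elim_inr, id, Fin.val_fin_lt, true_and, Sum.inl.injEq,
    Sum.inr.injEq, reduceCtorEq, or_false, Finset.sum_add_distrib]
  omega

end Cfsg.Agent.Mult
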