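import Cfsg.Agent.Mult.L34a
import Cfsg.Agent.Classical.SLCard
import Cfsg.Agent.Invol.OddAut
import Cfsg.Agent.FG.Three
import Cfsg.Agent.Transfer.Hol
import Cfsg.Agent.Spor.MatRep

/-! Sylow `2`-subgroups of `L₃(2ⁿ)`; groups with a fixed-point-free automorphism of order three; recognition of the
Sylow `2`-subgroup of `L₃(4)`. -/

set_option autoImplicit false

namespace Cfsg.Agent.Mult
open Matrix Subgroup
open scoped MatrixGroups commutatorElement

theorem l3_sylow {F : Type*} [Field F] [Fintype F] {n : ℕ} (hn : 1 ≤ n) (hF : Fintype.card F = 2 ^ n) :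
    ∃ S : Sylow 2 PSL(3, F), Nonempty (l3U F ≃* S) := by
  haveI : Fact (Nat.Prime 2) := ⟨Nat.prime_two⟩
  have hc : Nat.card (l3U F) = 2 ^ (n * 3) := by rw [l3U_card, hF, pow_mul]
  obtain ⟨t, ht⟩ : ∃ t, 2 ^ n = t + 1 := ⟨2 ^ n - 1, by have := Nat.one_le_two_pow (n := n); omega⟩
  have h2 : 2 ∣ t + 1 := ht ▸ dvd_pow_self 2 (by omega)
  have hS : Nat.card SL(3, F) = 2 ^ (n * 3) * ((t ^ 2 + 3 * t + 3) * t * (t * (t + 2))) := by
    have h := Classical.card_SL_mul (F := F) 3 (by simp)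
    simp only [Fin.prod_univ_three, Nat.card_eq_fintype_card (α := F), hF, ht] at h
    have t0 : 0 < t := by omega
    apply Nat.eq_of_mul_eq_mul_left t0
    rw [pow_mul, ht]
    simp only [Nat.add_sub_cancel, Fin.val_zero, Fin.val_one, Fin.val_two] at h
    rw [h, show (t + 1) ^ 3 = (t + 1) ^ 0 + (t ^ 2 + 3 * t + 3) * t by ring, Nat.add_sub_cancel_left,
      show (t + 1) ^ 0 + (t ^ 2 + 3 * t + 3) * t = (t + 1) ^ 1 + (t + 1) * (t * (t + 2)) by ring, Nat.add_sub_cancel_left,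
      show (t + 1) ^ 1 + (t + 1) * (t * (t + 2)) = (t + 1) ^ 2 + (t + 1) ^ 2 * t by ring, Nat.add_sub_cancel_left]
    ring
  have hodd : ¬ 2 ∣ (l3U F).index := by
    have := (l3U F).card_mul_index
    rw [hc, hS] at this
    rw [Nat.eq_of_mul_eq_mul_left (by positivity) this]
    obtain ⟨k, hk⟩ := h2
    obtain ⟨s, rfl⟩ : ∃ s, t = 2 * s + 1 := ⟨k - 1, by omega⟩
    simp only [Nat.Prime.dvd_mul Nat.prime_two]
    rw [show (2 * s + 1) ^ 2 + 3 * (2 * s + 1) + 3 = 2 * (2 * s ^ 2 + 5 * s + 3) + 1 by ring]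
    omega
  let U : Sylow 2 SL(3, F) := (IsPGroup.of_card hc).toSylow hodd
  let π := QuotientGroup.mk' (center SL(3, F))
  refine ⟨U.mapSurjective (QuotientGroup.mk'_surjective _), ⟨MulEquiv.ofBijective (π.subgroupMap (l3U F))
    ⟨?_, π.subgroupMap_surjective _⟩⟩⟩
  refine (injective_iff_map_eq_one (π.subgroupMap (l3U F))).2 ?_
  rintro ⟨_, a, b, c, rfl⟩ h
  have h1 : l3u a b c ∈ center SL(3, F) := (QuotientGroup.eq_one_iff _).1 (congrArg Subtype.val h)
  exact Subtype.ext (l3_center_eq h1 (mul_one _).symm (by simp [l3u_val]) (by simp))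

variable {T : Type*} [Group T]

theorem nonab_eight [Finite T] {C : Subgroup T} (hc : Nat.card C = 8) (hn : ¬ ∀ a ∈ C, ∀ b ∈ C, a * b = b * a) :
    ∃ t r : T, orderOf r = 4 ∧ t * r * t⁻¹ = r⁻¹ ∧ t ∉ zpowers r ∧ (∀ d, d ∈ C ↔ ∃ k : ℤ, d = r ^ k ∨ d = t * r ^ k) ∧
      (t * t = 1 ∨ t * t = r ^ 2) := by
  obtain ⟨r, hr, hr2⟩ : ∃ r ∈ C, r * r ≠ 1 := by
    by_contra h
    push Not at h
    refine hn fun a ha b hb => ?_
    have i : ∀ a ∈ C, a⁻¹ = a := fun a ha => inv_eq_of_mul_eq_one_right (h a ha)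
    have := i _ (mul_mem ha hb)
    rw [_root_.mul_inv_rev, i _ ha, i _ hb] at this
    exact this.symm
  have ho : orderOf r = 4 := by
    have d : orderOf r ∣ 2 ^ 3 := by
      have := Subgroup.orderOf_dvd_natCard C hr
      rwa [hc] at this
    obtain ⟨k, hk, e⟩ := (Nat.dvd_prime_pow Nat.prime_two).1 d
    interval_cases k
    · exact absurd (by rw [orderOf_eq_one_iff.1 e, one_mul]) hr2
    · exact absurd (by rw [← sq]; exact orderOf_dvd_iff_pow_eq_one.1 e.dvd) hr2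
    · exact e
    · have : zpowers r = C := eq_of_le_of_card_ge (zpowers_le.2 hr) (by rw [Nat.card_zpowers, e, hc]; rfl)
      refine absurd (fun a ha b hb => ?_) hn
      rw [← this] at ha hb
      obtain ⟨i, rfl⟩ := ha
      obtain ⟨j, rfl⟩ := hb
      exact (Commute.zpow_zpow_self r i j).eq
  obtain ⟨t, ht, ht'⟩ : ∃ t ∈ C, t ∉ zpowers r := by
    by_contra h
    push Not at h
    have := card_le_of_le (show C ≤ zpowers r from h)
    rw [Nat.card_zpowers, ho, hc] at this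
    omega
  have hm := Invol.mem_iff_of_card (by rw [hc, ho]) hr ht ht'
  have h4 : r ^ 4 = 1 := ho ▸ pow_orderOf_eq_one r
  have pw : ∀ k : ℤ, r ^ k = 1 ∨ r ^ k = r ∨ r ^ k = r ^ 2 ∨ r ^ k = r⁻¹ := fun k => by
    rw [← zpow_mod_orderOf, ho]
    have h1 := Int.emod_nonneg k (show ((4 : ℕ) : ℤ) ≠ 0 by norm_num)
    have h2 := Int.emod_lt_of_pos k (show (0 : ℤ) < ((4 : ℕ) : ℤ) by norm_num)
    generalize k % ((4 : ℕ) : ℤ) = j at h1 h2
    push_cast at h2
    interval_cases j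
    · simp
    · simp
    · exact Or.inr (Or.inr (Or.inl (zpow_ofNat r 2)))
    · refine Or.inr (Or.inr (Or.inr (eq_inv_of_mul_eq_one_left ?_)))
      rw [zpow_ofNat, ← pow_succ, h4]
  have nc : ¬ Commute t r := fun h => hn fun a ha b hb => by
    have : ∀ a ∈ C, Commute a t ∧ Commute a r := fun a ha => by
      obtain ⟨k, rfl | rfl⟩ := (hm a).1 ha
      · exact ⟨h.symm.zpow_left k, (Commute.refl r).zpow_left k⟩
      · exact ⟨(Commute.refl t).mul_left (h.symm.zpow_left k), h.mul_left ((Commute.refl r).zpow_left k)⟩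
    obtain ⟨k, rfl | rfl⟩ := (hm b).1 hb
    · exact ((this a ha).2.zpow_right k).eq
    · exact ((this a ha).1.mul_right ((this a ha).2.zpow_right k)).eq
  have hi : t * r * t⁻¹ = r⁻¹ := by
    obtain ⟨k, e | e⟩ := (hm _).1 (mul_mem (mul_mem ht hr) (inv_mem ht))
    · rcases pw k with h | h | h | h <;> rw [h] at e
      · exact absurd (by rw [conj_eq_one_iff.1 e, one_mul]) hr2
      · exact absurd (mul_inv_eq_iff_eq_mul.1 e) nc
      · have : (t * r * t⁻¹) ^ 2 = 1 := by rw [e, ← pow_mul, h4]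
        rw [conj_pow, conj_eq_one_iff, sq] at this
        exact absurd this hr2
      · exact e
    · refine absurd ?_ ht'
      rw [mul_assoc, mul_right_inj, mul_inv_eq_iff_eq_mul, ← inv_mul_eq_iff_eq_mul] at e
      rw [← e]
      exact mul_mem (inv_mem (zpow_mem (mem_zpowers r) k)) (mem_zpowers r)
  refine ⟨t, r, ho, hi, ht', hm, ?_⟩
  obtain ⟨k, e | e⟩ := (hm _).1 (mul_mem ht ht)
  · have c : Commute t (t * t) := (Commute.refl t).mul_right (Commute.refl t)
    rcases pw k with h | h | h | h <;> rw [h] at e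
    · exact Or.inl e
    · exact absurd (e ▸ c) nc
    · exact Or.inr e
    · exact absurd (Commute.inv_right_iff.1 (e ▸ c)) nc
  · exact absurd (by rw [mul_left_cancel e]; exact zpow_mem (mem_zpowers r) k) ht'

/-- the identities in a group with a fixed-point-free automorphism of order three -/
structure F3 (ρ : MulAut T) : Prop where
  r3 : ∀ y, ρ (ρ (ρ y)) = y
  nm : ∀ y, y * ρ y * ρ (ρ y) = 1
  cm : ∀ y, Commute y (ρ y)
  cen : ∀ y w v : T, Commute ⁅y, w⁆ v

theorem f3_of [Finite T] {ρ : MulAut T} (h3 : ρ ^ 3 = 1) (hfp : ∀ y : T, ρ y = y → y = 1) : F3 ρ := by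
  have r3 : ∀ y, ρ (ρ (ρ y)) = y := fun y => by
    have := congrArg (fun σ : MulAut T => σ y) h3
    simpa [pow_succ] using this
  have nm : ∀ y, y * ρ y * ρ (ρ y) = 1 := fun y => by
    obtain ⟨g, rfl⟩ := Finite.surjective_of_injective (f := fun g => g⁻¹ * ρ g) (fun a b e => by
      have : ρ (b * a⁻¹) = b * a⁻¹ := by
        simp only at e
        rw [map_mul, map_inv, mul_inv_eq_iff_eq_mul, mul_assoc, e]; simp
      exact (mul_inv_eq_one.1 (hfp _ this)).symm) y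
    simp [r3]
  refine ⟨r3, nm, fun y => ?_, fun y w v => ?_⟩
  · have h1 := nm y
    have h2 := nm y⁻¹
    simp only [map_inv, ← _root_.mul_inv_rev, inv_eq_one] at h2
    exact (eq_inv_of_mul_eq_one_left h1).trans (eq_inv_of_mul_eq_one_right h2).symm
  · open Transfer SemidirectProduct in
    have := FG.fpf_three_class (G := Hol T) (K := sdL _ ⊤) (b := inr ρ) (sdR_le_normalizer_top _ ⊤ ((inr_mem_sdR _).2 trivial))
      (by rw [← map_pow, h3, map_one]) (by
        rw [eq_bot_iff]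
        rintro _ ⟨⟨g, -, rfl⟩, h⟩
        rw [hfp g ((inr_mul_inl_eq_iff _).1 (mem_centralizer_singleton_iff.1 h).symm), map_one]
        exact one_mem _)
    have := this (commutator_mem_commutator ((inl_mem_sdL _).2 (mem_top y)) ((inl_mem_sdL _).2 (mem_top w))) _
      ((inl_mem_sdL _).2 (mem_top v))
    rw [← map_commutatorElement, ← map_mul, ← map_mul] at this
    exact (inl_injective this).symm

namespace F3
variable {ρ : MulAut T} (h : F3 ρ)
include h

theorem mul_left (x y w : T) : ⁅x * y, w⁆ = ⁅x, w⁆ * ⁅y, w⁆ := by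
  rw [commutatorElement_mul_left_eq_conj_mul, ← (h.cen y w x).eq, mul_inv_cancel_right, (h.cen y w _).eq]

theorem mul_right (x y w : T) : ⁅x, y * w⁆ = ⁅x, y⁆ * ⁅x, w⁆ := by
  rw [commutatorElement_mul_right_eq_mul_conj, mul_assoc, mul_assoc, (h.cen x w _).eq, mul_inv_cancel_left]

theorem swap (y w : T) : ⁅y, ρ w⁆ = ⁅ρ y, w⁆ := by
  have := commutatorElement_eq_one_iff_commute.2 (h.cm (y * w))
  rw [map_mul, h.mul_left, h.mul_right, h.mul_right, commutatorElement_eq_one_iff_commute.2 (h.cm y),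
    commutatorElement_eq_one_iff_commute.2 (h.cm w), one_mul, mul_one, mul_eq_one_iff_eq_inv, commutatorElement_inv] at this
  exact this

theorem left2 (y w : T) : ⁅ρ (ρ y), w⁆ = ρ ⁅y, w⁆ := by rw [← h.swap, map_commutatorElement]

theorem left1 (y w : T) : ⁅ρ y, w⁆ = ρ (ρ ⁅y, w⁆) := by rw [← h.left2, ← h.left2, h.r3]

theorem right1 (y w : T) : ⁅y, ρ w⁆ = ρ (ρ ⁅y, w⁆) := by rw [h.swap, h.left1]

end F3

open _root_.Cfsg.Agent.Spor in
/-- `F₄`-powers -/
def pw4 (y y' : T) (s : F4) : T := cond s.a y 1 * cond s.b y' 1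

open _root_.Cfsg.Agent.Spor in
theorem pw4_add {y y' : T} (h1 : y * y = 1) (h2 : y' * y' = 1) (h : y' * y = y * y') (s s' : F4) :
    pw4 y y' (s + s') = pw4 y y' s * pw4 y y' s' := by
  have r : ∀ {x y z : T}, x * y = z → ∀ w, x * (y * w) = z * w := fun e w => by rw [← mul_assoc, e]
  obtain ⟨_ | _, _ | _⟩ := s <;> obtain ⟨_ | _, _ | _⟩ := s' <;>
    simp [pw4, HAdd.hAdd, Add.add, mul_assoc, h1, h2, h, r h1, r h]

open _root_.Cfsg.Agent.Spor in
theorem F3.equiv_l3U [Finite T] {ρ : MulAut T} (h : F3 ρ) (hT : Nat.card T = 64) {e f : T} (he : e * e = 1)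
    (hf : f * f = 1) (hz : ⁅f, e⁆ ≠ 1) : Nonempty (T ≃* l3U F4) := by
  obtain ⟨z, hz'⟩ : ∃ z, z = ⁅f, e⁆ := ⟨_, rfl⟩
  rw [← hz'] at hz
  have zz : z * z = 1 := by rw [hz', ← h.mul_left, hf, commutatorElement_one_left]
  have ρρ : ∀ {y : T}, y * y = 1 → ρ y * ρ y = 1 := fun e => by rw [← map_mul, e, map_one]
  have c2 : ρ (ρ z) * z = z * ρ (ρ z) := by rw [hz']; exact (h.cen _ _ _).eq.symm
  have z1 : ρ z = z * ρ (ρ z) := by
    calc ρ z = z * (z * ρ z * ρ (ρ z)) * ρ (ρ z) := by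
          rw [← mul_assoc, ← mul_assoc, zz, one_mul, mul_assoc, ρρ (ρρ zz), mul_one]
      _ = _ := by rw [h.nm, mul_one]
  have ww := ρρ (ρρ zz)
  have k1 : ⁅ρ f, e⁆ = ρ (ρ z) := by rw [h.left1, hz']
  have k2 : ⁅f, ρ e⁆ = ρ (ρ z) := by rw [h.right1, hz']
  have k3 : ⁅ρ f, ρ e⁆ = z * ρ (ρ z) := by rw [← map_commutatorElement, ← hz', ← z1]
  have zc : ∀ v, Commute z v := fun v => hz' ▸ h.cen _ _ v
  have wc : ∀ v, Commute (ρ (ρ z)) v := fun v => k1 ▸ h.cen _ _ v
  have w1 : ρ (ρ z) ≠ 1 := by simpa using hz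
  have w2 : z * ρ (ρ z) ≠ 1 := by rw [← z1]; simpa using hz
  generalize ρ (ρ z) = w at *
  have r : ∀ {x y z : T}, x * y = z → ∀ w, x * (y * w) = z * w := fun e w => by rw [← mul_assoc, e]
  have mul4 : ∀ a b c d : Bool, (⟨a, b⟩ * ⟨c, d⟩ : F4) = ⟨xor (a && c) (b && d), xor (xor (a && d) (b && c)) (b && d)⟩ :=
    fun _ _ _ _ => rfl
  have bil : ∀ a b : F4, ⁅pw4 f (ρ f) a, pw4 e (ρ e) b⁆ = pw4 z w (a * b) := by
    intro a b
    obtain ⟨_ | _, _ | _⟩ := a <;> obtain ⟨_ | _, _ | _⟩ := b <;>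
      simp [pw4, mul4, h.mul_left, h.mul_right, ← hz', k1, k2, k3, mul_assoc, zz, ww, c2, r zz, r ww, r c2]
  have pc : ∀ c v, Commute (pw4 z w c) v := fun c v => by
    obtain ⟨_ | _, _ | _⟩ := c <;> simp [pw4, zc, wc]
  have p0 : ∀ c, pw4 z w c = 1 → c = 0 := fun c => by
    obtain ⟨_ | _, _ | _⟩ := c <;> simp [pw4, hz, w1, w2]; rfl
  have q0 : ∀ y y' : T, pw4 y y' 0 = 1 := fun y y' => mul_one 1
  have q1 : ∀ y y' : T, pw4 y y' 1 = y := fun y y' => mul_one y
  let φ : l3U F4 →* T := MonoidHom.mk' (fun g => pw4 e (ρ e) (g.1.1 1 2) * pw4 f (ρ f) (g.1.1 0 1) * pw4 z w (g.1.1 0 2)) (by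
    rintro ⟨_, a, b, c, rfl⟩ ⟨_, a', b', c', rfl⟩
    simp only [coe_mul, l3u_mul, l3u_val]
    simp only [of_apply, cons_val', cons_val_zero, cons_val_one, cons_val, cons_val_fin_one]
    rw [pw4_add he (ρρ he) (h.cm e).eq.symm, pw4_add hf (ρρ hf) (h.cm f).eq.symm, pw4_add zz ww c2, pw4_add zz ww c2, ← bil]
    generalize pw4 e (ρ e) b = E, pw4 e (ρ e) b' = E', pw4 f (ρ f) a = A, pw4 f (ρ f) a' = A'
    have d1 := pc c
    have d2 := pc c'
    generalize pw4 z w c = C, pw4 z w c' = C' at *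
    calc _ = E * (⁅A, E'⁆ * E' * A) * A' * C * C' := by
          rw [← mul_assoc, ← mul_assoc, ← (h.cen A E' _).eq]; simp only [mul_assoc, r (h.cen A E' E).eq]
      _ = _ := by simp only [commutatorElement_def, mul_assoc, inv_mul_cancel_left, r (d1 _).eq])
  have hφ : ∀ a b c, φ ⟨l3u a b c, a, b, c, rfl⟩ = pw4 e (ρ e) b * pw4 f (ρ f) a * pw4 z w c := fun _ _ _ => rfl
  have inj : Function.Injective φ := by
    rw [injective_iff_map_eq_one]
    rintro ⟨_, a, b, c, rfl⟩ hx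
    have m : ∀ a b c, φ ⟨l3u a b c, a, b, c, rfl⟩ = 1 → a = 0 → b = 0 → c = 0 := fun a b c e h1 h2 => by
      rw [hφ, h1, h2, q0, q0, one_mul, one_mul] at e
      exact p0 _ e
    have cm : ∀ a' b', a * b' - a' * b = 0 := fun a' b' => by
      have e1 : ⁅(⟨l3u a b c, a, b, c, rfl⟩ : l3U F4), (⟨l3u a' b' 0, a', b', 0, rfl⟩ : l3U F4)⁆ =
          ⟨l3u 0 0 (a * b' - a' * b), _, _, _, rfl⟩ := by
        apply Subtype.ext
        simp only [commutatorElement_def, coe_mul, coe_inv, l3u_inv, l3u_mul]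
        congr 1 <;> ring
      refine m _ _ _ ?_ rfl rfl
      rw [← e1, map_commutatorElement, hx, commutatorElement_one_left]
    have ha : a = 0 := by simpa using cm 0 1
    have hb : b = 0 := by simpa using cm 1 0
    have hc := m a b c hx ha hb
    subst ha hb hc
    exact Subtype.ext l3u_zero
  exact ⟨(MulEquiv.ofBijective φ (inj.bijective_of_nat_card_le (by rw [hT, l3U_card, F4.card]; rfl))).symm⟩

end Cfsg.Agent.Mult
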