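import Cfsg.Agent.Classical.L34
import Cfsg.Agent.S0051
import Cfsg.Prelude.Def_Transfer

/-! Unitriangular matrices of `SL₃(F)`, the two maximal elementary abelian subgroups, the Levi embedding of
`SL₂(F)` and the graph automorphism. -/

set_option autoImplicit false

namespace Cfsg.Agent.Mult
open Matrix
open scoped MatrixGroups

variable {F : Type*} [Field F]

/-- upper unitriangular matrix -/
def l3u (a b c : F) : SL(3, F) := ⟨!![1, a, c; 0, 1, b; 0, 0, 1], by simp [det_fin_three]⟩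

theorem l3u_val (a b c : F) : (l3u a b c).1 = !![1, a, c; 0, 1, b; 0, 0, 1] := rfl

theorem l3u_mul (a b c a' b' c' : F) : l3u a b c * l3u a' b' c' = l3u (a + a') (b + b') (c + c' + a * b') := by
  ext i j
  fin_cases i <;> fin_cases j <;> simp [l3u_val, Matrix.mul_apply, Fin.sum_univ_three] <;> ring

theorem l3u_zero : l3u (0 : F) 0 0 = 1 := by
  ext i j
  fin_cases i <;> fin_cases j <;> simp [l3u_val]

theorem l3u_inv (a b c : F) : (l3u a b c)⁻¹ = l3u (-a) (-b) (a * b - c) := by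
  rw [inv_eq_iff_mul_eq_one, l3u_mul, ← l3u_zero]; congr 1 <;> ring

theorem l3u_inj {a b c a' b' c' : F} (h : l3u a b c = l3u a' b' c') : a = a' ∧ b = b' ∧ c = c' := by
  have h1 := congrArg (fun g : SL(3, F) => g.1 0 1) h
  have h2 := congrArg (fun g : SL(3, F) => g.1 1 2) h
  have h3 := congrArg (fun g : SL(3, F) => g.1 0 2) h
  simp [l3u_val] at h1 h2 h3
  exact ⟨h1, h2, h3⟩

/-- the unitriangular group -/
def l3U (F : Type*) [Field F] : Subgroup SL(3, F) where
  carrier := {g | ∃ a b c, g = l3u a b c}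
  mul_mem' := by
    rintro _ _ ⟨a, b, c, rfl⟩ ⟨a', b', c', rfl⟩
    exact ⟨_, _, _, l3u_mul ..⟩
  one_mem' := ⟨0, 0, 0, l3u_zero.symm⟩
  inv_mem' := by
    rintro _ ⟨a, b, c, rfl⟩
    exact ⟨_, _, _, l3u_inv ..⟩

theorem l3U_card [Fintype F] : Nat.card (l3U F) = Fintype.card F ^ 3 := by
  have : Nat.card (F × F × F) = Nat.card (l3U F) := by
    refine Nat.card_eq_of_bijective (fun x => ⟨l3u x.1 x.2.1 x.2.2, _, _, _, rfl⟩) ⟨?_, ?_⟩
    · rintro ⟨a, b, c⟩ ⟨a', b', c'⟩ h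
      obtain ⟨rfl, rfl, rfl⟩ := l3u_inj (congrArg Subtype.val h)
      rfl
    · rintro ⟨_, a, b, c, rfl⟩
      exact ⟨(a, b, c), rfl⟩
  rw [← this]; simp; ring

/-- the Levi embedding -/
def l3d0 (M : SL(2, F)) : SL(3, F) := ⟨!![1, 0, 0; 0, M.1 0 0, M.1 0 1; 0, M.1 1 0, M.1 1 1], by
    have := M.2
    rw [det_fin_two] at this
    simp [det_fin_three, this]⟩

theorem l3d0_val (M : SL(2, F)) : (l3d0 M).1 = !![1, 0, 0; 0, M.1 0 0, M.1 0 1; 0, M.1 1 0, M.1 1 1] := rfl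

/-- the Levi embedding -/
def l3d : SL(2, F) →* SL(3, F) where
  toFun := l3d0
  map_one' := by
    ext i j
    fin_cases i <;> fin_cases j <;> simp [l3d0_val]
  map_mul' M N := by
    ext i j
    fin_cases i <;> fin_cases j <;> simp [l3d0_val, Matrix.mul_apply, Fin.sum_univ_three, Fin.sum_univ_two]

theorem l3d_val (M : SL(2, F)) : (l3d M).1 = !![1, 0, 0; 0, M.1 0 0, M.1 0 1; 0, M.1 1 0, M.1 1 1] := rfl

theorem l3u_mul_l3d (M : SL(2, F)) (a c : F) :
    l3u a 0 c * l3d M = l3d M * l3u (a * M.1 0 0 + c * M.1 1 0) 0 (a * M.1 0 1 + c * M.1 1 1) := by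
  ext i j
  fin_cases i <;> fin_cases j <;> simp [l3u_val, l3d_val, Matrix.mul_apply, Fin.sum_univ_three]

theorem l3_center_eq {z g h : SL(3, F)} (hz : z ∈ Subgroup.center SL(3, F)) (e : g = z * h) (h1 : g.1 0 0 = 1)
    (h2 : h.1 0 0 = 1) : g = h := by
  obtain ⟨r, -, hr⟩ := Matrix.SpecialLinearGroup.mem_center_iff.1 hz
  have : g.1 0 0 = r * h.1 0 0 := by
    rw [e, Matrix.SpecialLinearGroup.coe_mul, ← hr]; simp
  rw [h1, h2, mul_one] at this
  subst this
  have : z = 1 := Subtype.ext (by rw [← hr]; simp)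
  rw [e, this, one_mul]

theorem l3d_mul_inj {M N : SL(2, F)} {a c a' c' : F} (h : l3d M * l3u a 0 c = l3d N * l3u a' 0 c') : M = N := by
  have h1 := congrArg (fun g : SL(3, F) => g.1 1 1) h
  have h2 := congrArg (fun g : SL(3, F) => g.1 1 2) h
  have h3 := congrArg (fun g : SL(3, F) => g.1 2 1) h
  have h4 := congrArg (fun g : SL(3, F) => g.1 2 2) h
  simp [l3u_val, l3d_val, Matrix.mul_apply, Fin.sum_univ_three] at h1 h2 h3 h4
  ext i j
  fin_cases i <;> fin_cases j <;> simp [*]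

theorem l3d_mul_zero (M : SL(2, F)) (a c : F) : (l3d M * l3u a 0 c).1 0 0 = 1 := by
  simp [l3u_val, l3d_val, Matrix.mul_apply, Fin.sum_univ_three]

theorem l3_mk {n : ℕ} (A : Matrix (Fin n) (Fin n) F) (h : A.det = 1) : ∃ M : SL(n, F), M.1 = A := ⟨⟨A, h⟩, rfl⟩

/-- the Levi subgroup is transitive on the nonidentity elements `l3u a 0 c` -/
theorem l3d_trans {a c : F} (h : a ≠ 0 ∨ c ≠ 0) : ∃ M : SL(2, F), l3u 1 0 0 * l3d M = l3d M * l3u a 0 c := by
  rcases h with h | h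
  · obtain ⟨M, hM⟩ := l3_mk !![a, c; 0, a⁻¹] (by simp [det_fin_two, h])
    exact ⟨M, by rw [l3u_mul_l3d, hM]; simp⟩
  · obtain ⟨M, hM⟩ := l3_mk !![a, c; -c⁻¹, 0] (by simp [det_fin_two, h])
    exact ⟨M, by rw [l3u_mul_l3d, hM]; simp⟩

/-- the stabilizer of the first basis line over `F₄` -/
theorem l3_parab (h3 : ∀ s : F, s ≠ 0 → s ^ 3 = 1) (g : SL(3, F)) {a c : F} (h : g * l3u 1 0 0 = l3u a 0 c * g) :
    ∃ z ∈ Subgroup.center SL(3, F), ∃ M a c, g = z * (l3d M * l3u a 0 c) := by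
  have h1 := congrArg (fun g : SL(3, F) => g.1 1 1) h
  have h2 := congrArg (fun g : SL(3, F) => g.1 2 1) h
  simp [l3u_val, Matrix.mul_apply, Fin.sum_univ_three] at h1 h2
  have hd := g.2
  rw [det_fin_three, h1, h2] at hd
  have hs : g.1 0 0 ≠ 0 := by
    intro h0
    rw [h0] at hd
    simp at hd
  have h4 := h3 _ hs
  obtain ⟨s, hs'⟩ : ∃ s, s = g.1 0 0 := ⟨_, rfl⟩
  rw [← hs'] at hd h4
  obtain ⟨z, hz⟩ := l3_mk (scalar (Fin 3) s) (by simp [h4])
  obtain ⟨M, hM⟩ := l3_mk !![s ^ 2 * g.1 1 1, s ^ 2 * g.1 1 2; s ^ 2 * g.1 2 1, s ^ 2 * g.1 2 2] (by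
    rw [det_fin_two_of]
    linear_combination s ^ 3 * hd + h4)
  refine ⟨z, Matrix.SpecialLinearGroup.mem_center_iff.2 ⟨s, by simpa using h4, hz.symm⟩,
    M, s ^ 2 * g.1 0 1, s ^ 2 * g.1 0 2, ?_⟩
  ext i j
  fin_cases i <;> fin_cases j <;> simp [l3u_val, l3d_val, hz, hM, Matrix.mul_apply, Fin.sum_univ_three, h1, h2, ← hs'] <;>
      rw [← mul_assoc, ← pow_succ', h4, one_mul]

/-- the graph automorphism -/
def l3t0 (g : SL(3, F)) : SL(3, F) := ⟨((g⁻¹).1ᵀ).submatrix Fin.revPerm Fin.revPerm, by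
    rw [det_submatrix_equiv_self, det_transpose]; exact (g⁻¹).2⟩

theorem l3t0_val (g : SL(3, F)) : (l3t0 g).1 = ((g⁻¹).1ᵀ).submatrix Fin.revPerm Fin.revPerm := rfl

/-- the graph automorphism -/
def l3t : SL(3, F) →* SL(3, F) where
  toFun := l3t0
  map_one' := by
    apply Subtype.ext
    simp [l3t0_val]
  map_mul' g h := by
    apply Subtype.ext
    simp only [l3t0_val, _root_.mul_inv_rev, Matrix.SpecialLinearGroup.coe_mul, transpose_mul, submatrix_mul_equiv]

theorem l3t_val (g : SL(3, F)) : (l3t g).1 = ((g⁻¹).1ᵀ).submatrix Fin.revPerm Fin.revPerm := rfl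

theorem l3t_l3t (g : SL(3, F)) : l3t (l3t g) = g := by
  apply Subtype.ext
  rw [l3t_val, ← map_inv, l3t_val, inv_inv]
  ext i j
  simp

theorem l3t_l3u (a b c : F) : l3t (l3u a b c) = l3u (-b) (-a) (a * b - c) := by
  apply Subtype.ext
  rw [l3t_val, l3u_inv]
  ext i j
  fin_cases i <;> fin_cases j <;> simp [l3u_val, Fin.rev]

theorem l3t_center (z : SL(3, F)) : l3t z ∈ Subgroup.center SL(3, F) ↔ z ∈ Subgroup.center SL(3, F) := by
  have key : ∀ z : SL(3, F), z ∈ Subgroup.center SL(3, F) → l3t z ∈ Subgroup.center SL(3, F) := by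
    intro z hz
    rw [Subgroup.mem_center_iff] at hz ⊢
    intro g
    rw [← l3t_l3t g, ← map_mul, hz, map_mul]
  exact ⟨fun h => l3t_l3t z ▸ key _ h, key z⟩

/-- complements in an elementary abelian `2`-group -/
theorem ea2_compl {G : Type*} [Group G] [Finite G] (K W : Subgroup G) (hK : IsElementaryAbelian 2 K) :
    ∃ C ≤ K, C ⊓ W = ⊥ ∧ K ≤ (W ⊓ K) ⊔ C := by
  obtain ⟨C, ⟨h1, h2⟩, hC⟩ := Set.Finite.exists_maximal (Set.toFinite {C : Subgroup G | C ≤ K ∧ C ⊓ W = ⊥})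
    ⟨⊥, bot_le, bot_inf_eq _⟩
  refine ⟨C, h1, h2, fun e he => ?_⟩
  by_contra hn
  have hc : ∀ x ∈ K, ∀ y ∈ K, x * y = y * x := fun x hx y hy =>
    congrArg Subtype.val (hK.1.is_comm.comm (⟨x, hx⟩ : K) ⟨y, hy⟩)
  have h2e : e * e = 1 := by rw [← sq]; exact hK.2 e he
  let C' : Subgroup G :=
    { carrier := {x | x ∈ C ∨ e * x ∈ C}
      mul_mem' := by
        rintro x y (hx | hx) (hy | hy)
        · exact Or.inl (C.mul_mem hx hy)
        · refine Or.inr ?_
          rw [← mul_assoc, hc e he x (h1 hx), mul_assoc]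
          exact C.mul_mem hx hy
        · refine Or.inr ?_
          rw [← mul_assoc]
          exact C.mul_mem hx hy
        · refine Or.inl ?_
          have := C.mul_mem hx hy
          have hx' : x ∈ K := by simpa using K.mul_mem (K.inv_mem he) (h1 hx)
          rwa [hc e he x hx', mul_assoc, ← mul_assoc e, h2e, one_mul] at this
      one_mem' := Or.inl C.one_mem
      inv_mem' := by
        rintro x (hx | hx)
        · exact Or.inl (C.inv_mem hx)
        · refine Or.inr ?_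
          have hx' : x ∈ K := by simpa using K.mul_mem (K.inv_mem he) (h1 hx)
          have := C.inv_mem hx
          rwa [hc e he x hx', _root_.mul_inv_rev, inv_eq_of_mul_eq_one_right h2e] at this }
  have : C' ≤ C := by
    refine hC ⟨?_, ?_⟩ fun x hx => Or.inl hx
    · rintro x (hx | hx)
      · exact h1 hx
      · simpa using K.mul_mem (K.inv_mem he) (h1 hx)
    · rw [eq_bot_iff]
      rintro x ⟨hx | hx, hW⟩
      · rw [← h2]; exact ⟨hx, hW⟩
      · exfalso
        apply hn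
        have hx' : x ∈ K := by simpa using K.mul_mem (K.inv_mem he) (h1 hx)
        have : e = e * x * x⁻¹ := by simp
        rw [this]
        exact Subgroup.mul_mem _ (Subgroup.mem_sup_right hx) (Subgroup.mem_sup_left (Subgroup.inv_mem _ ⟨hW, hx'⟩))
  exact hn (Subgroup.mem_sup_right (this (Or.inr (by rw [h2e]; exact C.one_mem))))

end Cfsg.Agent.Mult
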