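import Mathlib.NumberTheory.Bertrand
import Mathlib.Data.Nat.Choose.Lucas
import Mathlib.Data.Nat.Multiplicity
import Mathlib.Tactic.IntervalCases
import Mathlib.Tactic.NormNum.Prime

/-! Binomial coefficients: `C(m, k)` with `1 ≤ k ≤ m / 2` has a prime divisor `r` with `k < r`
or `m < r ^ 2` (`Derang.exists_prime`), and such a prime produces a carry in the last digit
(`Derang.mod_lt`). -/

set_option autoImplicit false

namespace Cfsg.Agent.Mult.Derang

open Finset

theorem not_dvd_choose_lt {r a b : ℕ} (hr : r.Prime) (hab : b ≤ a) (h : a < r) :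
    ¬ r ∣ a.choose b := fun hd => by
  have : r ∣ a.factorial := hd.trans (by
    rw [← Nat.choose_mul_factorial_mul_factorial hab, mul_assoc]; exact dvd_mul_right _ _)
  exact absurd (hr.dvd_factorial.1 this) (by omega)

theorem mod_lt {r m k : ℕ} (hr : r.Prime) (hkm : k ≤ m) (hd : r ∣ m.choose k)
    (h : k < r ∨ m < r ^ 2) : m % r < k % r := by
  haveI : Fact r.Prime := ⟨hr⟩
  by_contra hlt
  have h1 := Choose.choose_modEq_choose_mod_mul_choose_div_nat (n := m) (k := k) (p := r)
  rcases (Nat.Prime.dvd_mul hr).1 ((h1.dvd_iff (dvd_refl r)).1 hd) with h2 | h2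
  · exact not_dvd_choose_lt hr (not_lt.1 hlt) (Nat.mod_lt _ hr.pos) h2
  rcases h with h | h
  · rw [Nat.div_eq_of_lt h, Nat.choose_zero_right] at h2
    exact hr.not_dvd_one h2
  · exact not_dvd_choose_lt hr (Nat.div_le_div_right hkm)
      ((Nat.div_lt_iff_lt_mul hr.pos).2 (by rwa [← pow_two])) h2

theorem dvd_of_mod_lt {r m k : ℕ} (hr : r.Prime) (h : m % r < k % r) : r ∣ m.choose k := by
  haveI : Fact r.Prime := ⟨hr⟩
  have h1 := Choose.choose_modEq_choose_mod_mul_choose_div_nat (n := m) (k := k) (p := r)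
  rw [Nat.choose_eq_zero_of_lt h, zero_mul] at h1
  exact (Nat.modEq_zero_iff_dvd).1 h1

theorem pow_le_mul_choose {m t : ℕ} (h : t ≤ m) : m ^ t ≤ t ^ t * m.choose t := by
  have h1 : m ^ t * t.factorial ≤ t ^ t * m.descFactorial t := by
    rw [← Nat.descFactorial_self, Nat.descFactorial_eq_prod_range,
      Nat.descFactorial_eq_prod_range, ← card_range t, ← prod_const, ← prod_const, card_range,
      ← prod_mul_distrib, ← prod_mul_distrib]
    refine prod_le_prod' fun i _ => ?_
    rw [Nat.mul_sub, Nat.mul_sub, mul_comm t m]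
    exact Nat.sub_le_sub_left (Nat.mul_le_mul_right i h) _
  rw [Nat.descFactorial_eq_factorial_mul_choose, mul_left_comm, mul_comm] at h1
  exact Nat.le_of_mul_le_mul_left h1 t.factorial_pos

theorem choose_mono {m t k : ℕ} (h : t ≤ k) (hk : 2 * k ≤ m) : m.choose t ≤ m.choose k := by
  induction k, h using Nat.le_induction with
  | base => exact le_rfl
  | succ k _ ih => exact (ih (by omega)).trans (Nat.choose_le_succ_of_lt_half_left (by omega))

theorem two_mul_card_lt (t : ℕ) :
    2 * ((range (t + 10)).filter Nat.Prime).card < t + 9 := by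
  induction t using Nat.twoStepInduction with
  | zero => decide
  | one => decide
  | more t ih _ =>
    have h1 : ¬ ((t + 11).Prime ∧ (t + 10).Prime) := fun ⟨a, b⟩ => by
      have := a.eq_two_or_odd
      have := b.eq_two_or_odd
      omega
    have h2 := card_insert_le (t + 11) ((range (t + 10)).filter Nat.Prime)
    have h3 := card_insert_le (t + 10) ((range (t + 10)).filter Nat.Prime)
    have h4 : range (t + 2 + 10) = insert (t + 11) (insert (t + 10) (range (t + 10))) := by
      rw [← range_add_one, ← range_add_one]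
    rw [h4, filter_insert, filter_insert]
    split_ifs with a b b
    · exact absurd ⟨a, b⟩ h1
    · omega
    · omega
    · omega

theorem small_case : ∀ m < 94, ∀ k < 47, 1 ≤ k ∧ 2 * k ≤ m → ([2, 3, 5, 7, 11, 13, 17, 19,
    23, 29, 31, 37, 41, 43, 47, 53, 59, 61, 67, 71, 73, 79, 83, 89].any fun r =>
    decide (m % r < k % r) && (decide (k < r) || decide (m < r ^ 2))) = true := by
  decide +kernel

theorem exists_prime {m k : ℕ} (h1 : 1 ≤ k) (h2 : 2 * k ≤ m) :
    ∃ r : ℕ, r.Prime ∧ r ∣ m.choose k ∧ (k < r ∨ m < r ^ 2) := by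
  by_cases hm : m < 94
  · obtain ⟨r, hr, hab⟩ := List.any_eq_true.1 (small_case m hm k (by omega) ⟨h1, h2⟩)
    simp only [Bool.and_eq_true, Bool.or_eq_true, decide_eq_true_eq] at hab
    obtain ⟨a, b⟩ := hab
    have hp : r.Prime := by
      simp only [List.mem_cons, List.not_mem_nil, or_false] at hr
      rcases hr with h | h | h | h | h | h | h | h | h | h | h | h | h | h | h | h | h | h | h |
        h | h | h | h | h <;> rw [h] <;> norm_num
    exact ⟨r, hp, dvd_of_mod_lt hp a, b⟩
  by_contra hcon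
  push Not at hcon
  set t := min k m.sqrt with ht
  have hc0 : m.choose k ≠ 0 := (Nat.choose_pos (by omega)).ne'
  have hup : m.choose k ≤ m ^ ((range (t + 1)).filter Nat.Prime).card := by
    conv_lhs => rw [← Nat.prod_factorization_pow_eq_self hc0]
    refine (prod_le_pow_card _ _ m fun p _ => Nat.pow_factorization_choose_le (by omega)).trans
      (Nat.pow_le_pow_right (by omega) (card_le_card fun p hp => ?_))
    rw [Nat.support_factorization, Nat.mem_primeFactors] at hp
    obtain ⟨a, b⟩ := hcon p hp.1 hp.2.1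
    exact mem_filter.2 ⟨mem_range.2 (Nat.lt_succ_of_le (le_min a (Nat.le_sqrt'.2 b))), hp.1⟩
  have htk : t ≤ k := min_le_left _ _
  have hlow := (pow_le_mul_choose (show t ≤ m by omega)).trans
    (Nat.mul_le_mul_left _ ((choose_mono htk h2).trans hup))
  have h9 : 9 ≤ m.sqrt := Nat.le_sqrt'.2 (by omega)
  by_cases ht9 : 9 ≤ t
  · obtain ⟨s, hs⟩ : ∃ s, t = s + 9 := ⟨t - 9, by omega⟩
    have h3 := two_mul_card_lt s
    rw [show s + 10 = t + 1 by omega, ← hs] at h3
    have h4 : t ^ 2 ≤ m := Nat.le_sqrt'.1 (min_le_right _ _)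
    set c := ((range (t + 1)).filter Nat.Prime).card
    have h5 : m ^ (t + t) ≤ m ^ (t + 2 * c) := by
      calc m ^ (t + t) = (m ^ t) ^ 2 := by ring
        _ ≤ (t ^ t * m ^ c) ^ 2 := Nat.pow_le_pow_left hlow 2
        _ = (t ^ 2) ^ t * m ^ (2 * c) := by ring
        _ ≤ m ^ t * m ^ (2 * c) := Nat.mul_le_mul_right _ (Nat.pow_le_pow_left h4 t)
        _ = _ := by ring
    rw [Nat.pow_le_pow_iff_right (by omega)] at h5
    omega
  have h3 : 1 ≤ t := le_min h1 (by omega)
  have key : ∀ t c : ℕ, c ≤ t → t ^ t < 94 ^ (t - c) → ¬ m ^ t ≤ t ^ t * m ^ c := by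
    intro t c a b e
    rw [show m ^ t = m ^ (t - c) * m ^ c by rw [← pow_add, Nat.sub_add_cancel a]] at e
    have := Nat.le_of_mul_le_mul_right e (Nat.pow_pos (by omega))
    have h6 : 94 ^ (t - c) ≤ m ^ (t - c) := Nat.pow_le_pow_left (by omega) _
    omega
  refine key _ _ ?_ ?_ hlow <;> clear_value t <;> interval_cases t <;> decide

theorem not_sq_dvd {p m : ℕ} (hp : p.Prime) (h : m < 2 * p) : ¬ p ^ 2 ∣ m.factorial := by
  have h1 : Nat.log p m < 2 := by
    rcases Nat.eq_zero_or_pos m with rfl | hm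
    · simp
    · exact Nat.log_lt_of_lt_pow hm.ne' (by have := hp.two_le; nlinarith)
  rw [hp.pow_dvd_factorial_iff h1]
  have : m / p < 2 := (Nat.div_lt_iff_lt_mul hp.pos).2 h
  simp
  omega

end Cfsg.Agent.Mult.Derang
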