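import Cfsg.Agent.Solv.Hall
import Cfsg.Agent.Solv.MinNormal
import Cfsg.Agent.Loc.PGrp
import Cfsg.Agent.Gen2.Cyc
import Mathlib.GroupTheory.SpecificGroups.ZGroup

/-! Induction steps for solvable groups whose subgroups of equal order are conjugate. (helper1) -/

set_option autoImplicit false

namespace Cfsg.Agent.Mult

open Subgroup Pointwise Cfsg.Agent.Solv

universe u

/-- subgroups of equal order are conjugate -/
def CCj (G : Type*) [Group G] : Prop :=
  ∀ H K : Subgroup G, Nat.card H = Nat.card K → ∃ g : G, MulAut.conj g • H = K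

variable {G : Type u} [Group G] [Finite G] {p : ℕ}

theorem CCj.sub {L H K : Subgroup G} (h : CCj L) (h1 : H ≤ L) (h2 : K ≤ L) (e : Nat.card H = Nat.card K) :
    ∃ g ∈ L, MulAut.conj g • H = K := by
  obtain ⟨g, hg⟩ := h (H.subgroupOf L) (K.subgroupOf L) (by rw [card_subgroupOf h1, card_subgroupOf h2, e])
  have := congrArg (Subgroup.map L.subtype) hg
  rw [map_subtype_conj_smul, map_subgroupOf_eq_of_le h1, map_subgroupOf_eq_of_le h2] at this
  exact ⟨g, g.2, this⟩

theorem ccj_prime [Group.IsSolvable G] [hp : Fact p.Prime] (N : Subgroup G) [N.Normal] (hN : Nat.card N = p)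
    (hall : ∀ x : G, orderOf x = p → x ∈ N) (h : CCj (G ⧸ N)) : CCj G := fun H K e => by
  have a1 : ∀ H : Subgroup G, p ∣ Nat.card H → N ≤ H := fun H hH => by
    obtain ⟨x, h1, h2⟩ := Loc.exists_orderOf_eq_of_dvd_card hH
    rw [← eq_of_le_of_card_ge (zpowers_le.2 (hall x h2)) (by rw [hN, Nat.card_zpowers, h2])]
    exact zpowers_le.2 h1
  have a2 : ∀ H : Subgroup G, ¬ p ∣ Nat.card H → N ⊓ H = ⊥ := fun H hH =>
    eq_bot_of_le_of_coprime (inf_le_left : N ⊓ H ≤ N) (hN ▸ (hp.out.coprime_iff_not_dvd.2 fun h =>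
      hH (h.trans (card_dvd_of_le inf_le_right))))
  have a3 : Nat.card (N ⊓ H : Subgroup G) = Nat.card (N ⊓ K : Subgroup G) := by
    by_cases hd : p ∣ Nat.card H
    · rw [inf_eq_left.2 (a1 H hd), inf_eq_left.2 (a1 K (e ▸ hd))]
    · rw [a2 H hd, a2 K (e ▸ hd)]
  obtain ⟨g, hg⟩ := h (H.map (QuotientGroup.mk' N)) (K.map (QuotientGroup.mk' N)) (by
    have b1 := card_map_mul_card_inf_ker (QuotientGroup.mk' N) H
    have b2 := card_map_mul_card_inf_ker (QuotientGroup.mk' N) K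
    rw [QuotientGroup.ker_mk'] at b1 b2
    rw [a3, e, ← b2] at b1
    exact Nat.eq_of_mul_eq_mul_right Nat.card_pos b1)
  obtain ⟨g, rfl⟩ := QuotientGroup.mk'_surjective N g
  have := congrArg (Subgroup.comap (QuotientGroup.mk' N)) hg
  rw [← map_conj_smul, comap_map_mk', comap_map_mk'] at this
  rw [← card_conj_smul g H] at e
  suffices ∃ x : G, MulAut.conj x • MulAut.conj g • H = K from
    let ⟨x, hx⟩ := this; ⟨x * g, by rw [← conj_smul_conj_smul, hx]⟩
  generalize MulAut.conj g • H = H at *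
  by_cases hd : p ∣ Nat.card K
  · rw [sup_eq_left.2 (a1 H (e ▸ hd)), sup_eq_left.2 (a1 K hd)] at this
    exact ⟨1, by rw [conj_one_smul, this]⟩
  have a4 : ∀ H : Subgroup G, ¬ p ∣ Nat.card H → IsPiHallOf {p}ᶜ H (H ⊔ N) := fun H hH =>
    isPiHallOf_iff.2 ⟨le_sup_left, (isPiNum_compl_singleton_iff hp.out).2 (hp.out.coprime_iff_not_dvd.2 hH).symm, by
      have b1 := card_mul_relIndex (le_sup_left : H ≤ H ⊔ N)
      rw [sup_comm H N, card_sup_of_disjoint le_normalizer_of_normal (a2 H hH), mul_comm (Nat.card N)] at b1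
      rw [sup_comm H N, Nat.eq_of_mul_eq_mul_left Nat.card_pos b1, hN]
      exact (IsPiNum.of_prime hp.out (Set.mem_singleton p)).compl_compl⟩
  obtain ⟨x, -, hx⟩ := (HallOK.of_isSolvable {p}ᶜ _).exists_conj_eq_hallOf (this ▸ a4 H (e ▸ hd)) (a4 K hd)
  exact ⟨x, hx⟩

theorem ccj_sylow [Group.IsSolvable G] [hp : Fact p.Prime] (N : Subgroup G) [N.Normal] (hN : IsPGroup p N)
    (hi : ¬ p ∣ N.index) (hA : ∀ A ≤ N, ∀ B ≤ N, Nat.card A = Nat.card B → ∃ g : G, MulAut.conj g • A = B)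
    (hL : ∀ A ≤ N, ∀ L, IsPiHallOf {p}ᶜ L (normalizer (A : Set G)) → CCj L) : CCj G := fun H K e => by
  have a1 : ∀ H : Subgroup G, IsPiNum {p}ᶜ ((N ⊓ H).relIndex H) := fun H => by
    rw [inf_relIndex_right]
    exact (isPiNum_compl_singleton_iff hp.out).2
      (hp.out.coprime_iff_not_dvd.2 fun h => hi (h.trans (relIndex_dvd_index_of_normal N H))).symm
  have a2 : ∀ H : Subgroup G, IsPiNum {p} (Nat.card (N ⊓ H : Subgroup G)) := fun H =>
    isPiNum_card_singleton_iff.2 hN.to_inf_left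
  obtain ⟨g, hg⟩ := hA (N ⊓ H) inf_le_left (N ⊓ K) inf_le_left (IsPiNum.eq_of_mul_eq (by
    rw [card_mul_relIndex inf_le_right, card_mul_relIndex inf_le_right, e]) (a2 H) (a1 H) (a2 K) (a1 K))
  rw [smul_inf, conj_smul_eq_self_iff.2 (le_normalizer_of_normal (mem_top g))] at hg
  rw [← card_conj_smul g H] at e
  suffices ∃ x : G, MulAut.conj x • MulAut.conj g • H = K from
    let ⟨x, hx⟩ := this; ⟨x * g, by rw [← conj_smul_conj_smul, hx]⟩
  generalize MulAut.conj g • H = H at *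
  obtain ⟨H₁, h1⟩ := (HallOK.of_isSolvable {p}ᶜ H).exists_hallOf
  obtain ⟨K₁, k1⟩ := (HallOK.of_isSolvable {p}ᶜ K).exists_hallOf
  have nr : ∀ H : Subgroup G, H ≤ normalizer ((N ⊓ H : Subgroup G) : Set G) := fun H =>
    le_normalizer_inf le_normalizer_of_normal le_normalizer
  obtain ⟨L, l1, l2⟩ := (HallOK.of_isSolvable {p}ᶜ _).exists_hallOf_ge (k1.1.trans (nr K)) (HallOf.card k1)
  obtain ⟨m, m1, m2⟩ := (HallOK.of_isSolvable {p}ᶜ _).exists_conj_le_hallOf l1 (h1.1.trans (hg ▸ nr H)) (HallOf.card h1)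
  obtain ⟨x, x1, x2⟩ := (hL _ inf_le_left L l1).sub m2 l2 (by
    rw [card_conj_smul]
    exact IsPiNum.eq_of_mul_eq (by rw [card_mul_relIndex h1.1, card_mul_relIndex k1.1, e]) (HallOf.card h1)
      (HallOf.relIndex h1) (HallOf.card k1) (HallOf.relIndex k1))
  refine ⟨x * m, ?_⟩
  rw [← HallOf.sup_eq_of_relIndex h1 inf_le_right (a1 H), smul_sup, ← conj_smul_conj_smul x m H₁, x2, hg,
    conj_smul_eq_self_iff.2 (mul_mem (l1.1 x1) m1), HallOf.sup_eq_of_relIndex k1 inf_le_right (a1 K)]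

theorem ccj_dich [hp : Fact p.Prime] (N : Subgroup G) [N.Normal] (h0 : N ≠ ⊥) (he : ∀ x ∈ N, x ^ p = 1)
    (hc : ∀ A ≤ N, ∀ x : G, IsPGroup p (zpowers x) → Nat.card A = orderOf x → ∃ g : G, MulAut.conj g • A = zpowers x) :
    (∀ x : G, orderOf x = p → x ∈ N) ∧ (Nat.card N = p ∨ p ^ 2 ∣ Nat.card N ∧ ¬ p ∣ N.index) := by
  have hN := isPGroup_of_pow_eq_one he
  have key : ∀ k, p ^ k ∣ Nat.card N → ∀ x : G, orderOf x = p ^ k → x ∈ N := fun k hk x hx => by
    obtain ⟨A, hA⟩ := Sylow.exists_subgroup_card_pow_prime p hk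
    obtain ⟨g, hg⟩ := hc _ (map_subtype_le A) x (.of_card (by rw [Nat.card_zpowers, hx]))
      (by rw [card_map_of_injective N.subtype_injective, hA, hx])
    have := conj_smul_mono g (map_subtype_le A)
    rw [hg, conj_smul_eq_self_iff.2 (le_normalizer_of_normal (mem_top g))] at this
    exact this (mem_zpowers x)
  have k1 := key 1 (by rw [pow_one]; exact dvd_card_of_isPGroup hN h0)
  rw [pow_one] at k1
  refine ⟨k1, ?_⟩
  obtain ⟨n, hn⟩ := IsPGroup.iff_card.1 hN
  rcases n with _ | _ | n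
  · exact (h0 (card_eq_one.1 hn)).elim
  · exact .inl (by simpa using hn)
  have h2 : p ^ 2 ∣ Nat.card N := hn ▸ pow_dvd_pow p (by omega)
  refine .inr ⟨h2, fun hd => ?_⟩
  obtain ⟨P, hP⟩ := hN.exists_le_sylow
  refine P.not_dvd_index (hd.trans (index_dvd_of_le fun x hx => ?_))
  obtain ⟨k, hk⟩ := Loc.exists_orderOf_of_isPGroup P.2 hx
  rcases k with _ | _ | k
  · rw [orderOf_eq_one_iff.1 hk]; exact one_mem _
  · exact k1 x (by simpa using hk)
  have h1 : orderOf (x ^ p ^ k) = p ^ 2 := by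
    rw [orderOf_pow_of_dvd (pow_ne_zero _ hp.out.ne_zero) (by rw [hk]; exact pow_dvd_pow _ (by omega)), hk,
      show k + 1 + 1 = k + 2 by omega, pow_add, Nat.mul_div_cancel_left _ (pow_pos hp.out.pos k)]
  have := Nat.le_of_dvd hp.out.pos (h1 ▸ orderOf_dvd_of_pow_eq_one (he _ (key 2 h2 _ h1)))
  have := hp.out.one_lt
  nlinarith

theorem ccj_main (n : ℕ) : ∀ (G : Type u) [Group G] [Finite G] [Group.IsSolvable G], Nat.card G = n →
    (∀ p : ℕ, p.Prime → ∀ H K : Subgroup G, IsPGroup p H → IsPGroup p K → Nat.card H = Nat.card K →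
      ∃ g : G, MulAut.conj g • H = K) →
    ∀ r : ℕ, (∀ p : ℕ, p.Prime → p ≠ r → ∀ P : Subgroup G, IsPGroup p P → IsCyclic P) → CCj G := by
  induction n using Nat.strong_induction_on with
  | _ n ih =>
  intro G _ _ _ hn hD r hr
  rcases subsingleton_or_nontrivial G with h | h
  · exact fun H K _ => ⟨1, Subsingleton.elim _ _⟩
  obtain ⟨p, N, hp, hN, h0, hc, he, hP, -⟩ := exists_normal_elementary G
  haveI := Fact.mk hp
  obtain ⟨h1, h2 | ⟨h2, h3⟩⟩ := ccj_dich N h0 he fun A hA x hx e =>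
    hD p hp _ _ (hP.to_le hA) hx (by rw [e, Nat.card_zpowers])
  · have lift : ∀ q : ℕ, q.Prime → ∀ Q : Subgroup (G ⧸ N), IsPGroup q Q → ∃ R : Subgroup G, IsPGroup q R ∧
        R.map (QuotientGroup.mk' N) = Q ∧ Nat.card R = q ^ (Nat.card N * Nat.card Q).factorization q := by
      intro q hq Q hQ
      haveI := Fact.mk hq
      obtain ⟨R⟩ : Nonempty (Sylow q (Q.comap (QuotientGroup.mk' N))) := inferInstance
      refine ⟨R.1.map (Subgroup.subtype _), R.2.map _, ?_, by
        rw [card_map_of_injective (subtype_injective _), ← card_comap_mk']; exact R.card_eq_multiplicity⟩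
      have sj := (QuotientGroup.mk' N).subgroupComap_surjective_of_surjective Q (QuotientGroup.mk'_surjective N)
      have : (R.mapSurjective sj).1 = ⊤ := (R.mapSurjective sj).3 (hQ.to_subgroup ⊤) le_top ▸ rfl
      have := congrArg (Subgroup.map Q.subtype) this
      rw [← MonoidHom.range_eq_map, range_subtype] at this
      refine Eq.trans ?_ this
      rw [map_map]
      exact (map_map R.1 Q.subtype ((QuotientGroup.mk' N).subgroupComap Q)).symm
    refine ccj_prime N h2 h1 (ih _ (hn ▸ card_quotient_lt h0) _ rfl (fun q hq H K a1 a2 e => ?_) r fun q hq e Q hQ => ?_)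
    · obtain ⟨H, b1, rfl, b2⟩ := lift q hq H a1
      obtain ⟨K, c1, rfl, c2⟩ := lift q hq K a2
      obtain ⟨g, rfl⟩ := hD q hq H K b1 c1 (by rw [b2, c2, e])
      exact ⟨_, (map_conj_smul _ _ _).symm⟩
    · obtain ⟨R, b1, rfl, -⟩ := lift q hq Q hQ
      haveI := hr q hq e R b1
      exact isCyclic_of_surjective _ ((QuotientGroup.mk' N).subgroupMap_surjective R)
  have pr : p = r := by_contra fun e => by
    haveI := hr p hp e N hP
    have := Nat.le_of_dvd hp.pos (h2.trans (IsCyclic.exponent_eq_card (α := N) ▸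
      Monoid.exponent_dvd_of_forall_pow_eq_one fun x => Subtype.ext (he x x.2)))
    have := hp.one_lt
    nlinarith
  refine ccj_sylow N hP h3 (fun A a B b => hD p hp A B (hP.to_le a) (hP.to_le b)) fun A _ L hL => ?_
  have c := (isPiNum_compl_singleton_iff hp).1 (HallOf.card hL)
  have cy : ∀ q : ℕ, q.Prime → ∀ P : Subgroup L, IsPGroup q P → IsCyclic P := fun q hq P hP => by
    haveI := Fact.mk hq
    by_cases e : q = r
    · rw [show P = ⊥ from by_contra fun h => hp.coprime_iff_not_dvd.1 c.symm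
        ((pr ▸ e ▸ dvd_card_of_isPGroup hP h).trans (card_subgroup_dvd_card P))]
      infer_instance
    · haveI := hr q hq e _ (hP.map L.subtype)
      exact isCyclic_of_surjective _ (P.equivMapOfInjective _ L.subtype_injective).symm.surjective
  refine ih _ (hn ▸ card_lt_of_ne_top fun e => hp.coprime_iff_not_dvd.1 c.symm
    (((dvd_pow_self p two_ne_zero).trans h2).trans (card_dvd_of_le (e ▸ le_top)))) L rfl
    (fun q hq H K a1 a2 e => ?_) r fun q hq _ => cy q hq
  haveI := Fact.mk hq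
  obtain ⟨S, hS⟩ := a1.exists_le_sylow
  obtain ⟨T, hT⟩ := a2.exists_le_sylow
  obtain ⟨g, rfl⟩ := MulAction.exists_smul_eq L S T
  haveI : IsCyclic (MulAut.conj g • S.1 : Subgroup L) := cy q hq _ (g • S).2
  exact ⟨g, Gen2.eq_of_card_eq_of_isCyclic (conj_smul_mono g hS) hT (by rw [card_conj_smul, e])⟩

end Cfsg.Agent.Mult
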