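import Cfsg.Agent.CH.Reg7
import Cfsg.Agent.CH.Reg5
import Cfsg.Agent.CH.Reg4
import Mathlib.Combinatorics.Enumerative.DoubleCounting

/-! Orbit lemma for nonvanishing elements: if a normal `r`-subgroup `R` (with `r` odd or `R`
abelian) acts on an irreducible module and `y ∈ R` acts nontrivially, then some vector is
fixed by no conjugate of `y` (`NV.orbit_min`). -/

set_option autoImplicit false

namespace Cfsg.Agent.Mult.NV

open Subgroup Cfsg.Agent.CH.Reg
open scoped IsMulCommutative commutatorElement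

universe u

theorem card_root_le {Q : Type*} [Group Q] [Fintype Q] [DecidableEq Q] [IsCyclic (center Q)]
    {r : ℕ} (hr : 0 < r) :
    (Finset.univ.filter fun s : Q => s ^ r = 1).card ≤ r * (center Q).index := by
  classical
  haveI : Fintype (Q ⧸ center Q) := Fintype.ofFinite _
  have h := Finset.card_le_mul_card_image_of_maps_to
    (f := fun s : Q => (s : Q ⧸ center Q)) (s := Finset.univ.filter fun s : Q => s ^ r = 1)
    (t := Finset.univ) (fun _ _ => Finset.mem_univ _) r (fun ω _ => ?_)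
  · rwa [Finset.card_univ, ← Nat.card_eq_fintype_card] at h
  rcases (((Finset.univ.filter fun s : Q => s ^ r = 1).filter
    fun s : Q => (s : Q ⧸ center Q) = ω)).eq_empty_or_nonempty with he | ⟨s0, hs0⟩
  · rw [he]; exact Nat.zero_le _
  simp only [Finset.mem_filter, Finset.mem_univ, true_and] at hs0
  refine le_trans ?_ (IsCyclic.card_pow_eq_one_le (α := center Q) hr)
  refine Finset.card_le_card_of_injOn
    (fun s => if h : s0⁻¹ * s ∈ center Q then ⟨s0⁻¹ * s, h⟩ else 1) (fun s hs => ?_)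
    (fun s hs t ht e => ?_)
  · simp only [Finset.coe_filter, Finset.mem_filter, Finset.mem_univ, true_and,
      Set.mem_ofPred_eq] at hs ⊢
    have hz : s0⁻¹ * s ∈ center Q := QuotientGroup.eq.1 (hs0.2.trans hs.2.symm)
    rw [dif_pos hz]
    apply Subtype.ext
    have hc : Commute s0 (s0⁻¹ * s) := mem_center_iff.1 hz s0
    have := hc.mul_pow r
    rw [mul_inv_cancel_left, hs.1, hs0.1, one_mul] at this
    exact this.symm
  · simp only [Finset.coe_filter, Finset.mem_filter, Finset.mem_univ, true_and,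
      Set.mem_ofPred_eq] at hs ht
    have hz : s0⁻¹ * s ∈ center Q := QuotientGroup.eq.1 (hs0.2.trans hs.2.symm)
    have hz' : s0⁻¹ * t ∈ center Q := QuotientGroup.eq.1 (hs0.2.trans ht.2.symm)
    simp only [dif_pos hz, dif_pos hz'] at e
    exact mul_left_cancel (congrArg Subtype.val e)

theorem num9 {e : ℕ} (he : 3 ≤ e) : e ^ 9 < 8 * 16 ^ e := by
  induction e, he using Nat.le_induction with
  | base => norm_num
  | succ e he ih =>
    have h1 : 3 * (e + 1) ≤ 4 * e := by omega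
    have h2 : (3 * (e + 1)) ^ 9 ≤ (4 * e) ^ 9 := Nat.pow_le_pow_left h1 9
    rw [mul_pow, mul_pow] at h2
    rw [pow_succ 16]
    norm_num at h2
    omega

/-- The induction statement. -/
def OL (r n : ℕ) : Prop :=
  ∀ (G V : Type u) [Group G] [Finite G] [AddCommGroup V] [Finite V] [DistribMulAction G V]
    [FaithfulSMul G V], Nat.card G < n → Irr G V → ∀ R : Subgroup G, R.Normal → IsPGroup r R →
    (r ≠ 2 ∨ IsMulCommutative R) → ∀ y ∈ R, y ≠ 1 → ∃ v : V, ∀ g : G, (g * y * g⁻¹) • v ≠ v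

theorem irr_ol {r n : ℕ} (hn : OL.{u} r n) {G : Type*} {V : Type u} [Group G] [Finite G]
    [AddCommGroup V] [Finite V] [DistribMulAction G V] (hc : Nat.card G < n) (hI : Irr G V)
    (R : Subgroup G) [hR : R.Normal] (h1 : ∀ x ∈ R, ∃ k : ℕ, ∀ v : V, (x ^ r ^ k) • v = v)
    (h2 : r ≠ 2 ∨ ∀ a ∈ R, ∀ b ∈ R, ∀ v : V, (a * b) • v = (b * a) • v) {y : G} (hy : y ∈ R)
    {w : V} (hw : y • w ≠ w) : ∃ v : V, ∀ g : G, (g * y * g⁻¹) • v ≠ v := by
  let f : G →* Equiv.Perm V := MulAction.toPermHom G V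
  letI : DistribMulAction f.range V :=
    { (inferInstance : MulAction f.range V) with
      smul_zero := by rintro ⟨_, a, rfl⟩; exact smul_zero a
      smul_add := by rintro ⟨_, a, rfl⟩ x y; exact smul_add a x y }
  have hd : Nat.card f.range ∣ Nat.card G := Subgroup.card_range_dvd f
  haveI : Finite f.range := Finite.of_surjective _ f.rangeRestrict_surjective
  have hs : ∀ (a : G) (v : V), f.rangeRestrict a • v = a • v := fun _ _ => rfl
  have hext : ∀ a b : G, (∀ v : V, a • v = b • v) → f.rangeRestrict a = f.rangeRestrict b :=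
    fun a b h => Subtype.ext (Equiv.ext h)
  obtain ⟨v, h⟩ := hn f.range V (lt_of_le_of_lt (Nat.le_of_dvd Nat.card_pos hd) hc)
    (fun U hU => hI U fun a x hx => hU ⟨f a, a, rfl⟩ x hx) (R.map f.rangeRestrict)
    (hR.map _ f.rangeRestrict_surjective) (by
      rintro ⟨_, x, hx, rfl⟩
      obtain ⟨k, hk⟩ := h1 x hx
      refine ⟨k, Subtype.ext ?_⟩
      change f.rangeRestrict x ^ r ^ k = 1
      rw [← map_pow, ← map_one f.rangeRestrict]
      exact hext _ _ fun v => by rw [hk, one_smul])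
    (h2.imp_right fun h => ⟨⟨by
      rintro ⟨_, a, ha, rfl⟩ ⟨_, b, hb, rfl⟩
      apply Subtype.ext
      change f.rangeRestrict a * f.rangeRestrict b = f.rangeRestrict b * f.rangeRestrict a
      rw [← map_mul, ← map_mul]
      exact hext _ _ (h a ha b hb)⟩⟩)
    (f.rangeRestrict y) ⟨y, hy, rfl⟩ (fun e => hw (by rw [← hs, e, one_smul]))
  refine ⟨v, fun g e => h (f.rangeRestrict g) ?_⟩
  rw [← map_inv, ← map_mul, ← map_mul, hs, e]

theorem min_ol {r n : ℕ} (hn : OL.{u} r n) {G : Type*} {V : Type u} [Group G] [Finite G]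
    [AddCommGroup V] [Finite V] [DistribMulAction G V] (hc : Nat.card G < n)
    {M : AddSubgroup V} (hM : MinInv G M)
    (R : Subgroup G) [hR : R.Normal] (h1 : ∀ x ∈ R, ∃ k : ℕ, ∀ v : V, (x ^ r ^ k) • v = v)
    (h2 : r ≠ 2 ∨ ∀ a ∈ R, ∀ b ∈ R, ∀ v : V, (a * b) • v = (b * a) • v) {y : G} (hy : y ∈ R)
    {w : V} (hwM : w ∈ M) (hw : y • w ≠ w) : ∃ v ∈ M, ∀ g : G, (g * y * g⁻¹) • v ≠ v := by
  letI := subAct G M hM.1
  obtain ⟨v, h⟩ := irr_ol hn hc (irr_sub hM) R
    (fun x hx => (h1 x hx).imp fun k hk v => Subtype.ext (hk v))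
    (h2.imp_right fun h a ha b hb v => Subtype.ext (h a ha b hb v)) hy (w := ⟨w, hwM⟩)
    (fun e => hw (congrArg Subtype.val e))
  exact ⟨v, v.2, fun g e => h g (Subtype.ext e)⟩

theorem imprim_ol {r n : ℕ} [Fact r.Prime] (hn : OL.{u} r n) {G V : Type u} [Group G] [Finite G]
    [AddCommGroup V] [Finite V] [DistribMulAction G V] [FaithfulSMul G V]
    (hc : Nat.card G ≤ n) (hI : Irr G V) {H : Subgroup G} (hH : IsCoatom H) (e : V →+ V)
    (he0 : e ≠ 0) (hee : ∀ x, e (e x) = e x) (heH : ∀ h ∈ H, ∀ x, e (h • x) = h • e x)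
    (heG : ∀ g, g ∉ H → ∀ x, e (g • e x) = 0) (R : Subgroup G) [hR : R.Normal]
    (hp : IsPGroup r R) (h2 : r ≠ 2 ∨ IsMulCommutative R) {y : G} (hy : y ∈ R) (hy1 : y ≠ 1) :
    ∃ v : V, ∀ g : G, (g * y * g⁻¹) • v ≠ v := by
  classical
  obtain ⟨x0, hx0⟩ : ∃ x, e x ≠ 0 := by
    by_contra h
    push Not at h
    exact he0 (AddMonoidHom.ext h)
  by_cases hno : ∀ g : G, g * y * g⁻¹ ∉ H
  · refine ⟨e x0, fun g h => hx0 ?_⟩
    rw [← hee, ← h]
    exact heG _ (hno g) _
  push Not at hno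
  obtain ⟨g0, hg0⟩ := hno
  have hall : ∀ g : G, g * y * g⁻¹ ∈ H := by
    by_cases hRH : R ≤ H
    · exact fun g => hRH (hR.conj_mem y hy g)
    haveI : Group.IsNilpotent R := hp.isNilpotent
    have hlt : H.subgroupOf R < ⊤ := lt_top_iff_ne_top.2 fun h => hRH (subgroupOf_eq_top.1 h)
    obtain ⟨t, ht1, ht2⟩ := SetLike.exists_of_lt
      (Group.normalizerCondition_of_isNilpotent (G := R) (H.subgroupOf R) hlt)
    have hn1 : H ≤ normalizer ((R ⊓ H : Subgroup G) : Set G) := by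
      intro h hh
      rw [mem_normalizer_iff]
      intro x
      refine ⟨fun hx => ⟨hR.conj_mem x hx.1 h, H.mul_mem (H.mul_mem hh hx.2) (H.inv_mem hh)⟩,
        fun hx => ⟨?_, ?_⟩⟩
      · simpa [mul_assoc] using hR.conj_mem _ hx.1 h⁻¹
      · simpa [mul_assoc] using H.mul_mem (H.mul_mem (H.inv_mem hh) hx.2) hh
    have hn2 : (t : G) ∈ normalizer ((R ⊓ H : Subgroup G) : Set G) := by
      rw [mem_normalizer_iff] at ht1 ⊢
      intro x
      refine ⟨fun hx => ⟨hR.conj_mem x hx.1 t, (ht1 ⟨x, hx.1⟩).1 hx.2⟩, fun hx => ?_⟩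
      have hxR : x ∈ R := by simpa [mul_assoc] using hR.conj_mem _ hx.1 (t : G)⁻¹
      exact ⟨hxR, (ht1 ⟨x, hxR⟩).2 hx.2⟩
    have htop : normalizer ((R ⊓ H : Subgroup G) : Set G) = ⊤ :=
      hH.2 _ (lt_of_le_of_ne hn1 fun h => ht2 (show (t : G) ∈ H from h ▸ hn2))
    have hN : (R ⊓ H).Normal := normalizer_eq_top_iff.1 htop
    intro g
    have := hN.conj_mem _ (show g0 * y * g0⁻¹ ∈ R ⊓ H from ⟨hR.conj_mem y hy g0, hg0⟩) (g * g0⁻¹)
    have h3 : g * g0⁻¹ * (g0 * y * g0⁻¹) * (g * g0⁻¹)⁻¹ = g * y * g⁻¹ := by group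
    exact h3 ▸ this.2
  have hW : MinInv H e.range := block_min hI e hee heH heG
  obtain ⟨g1, w, hw, hne⟩ : ∃ g : G, ∃ w ∈ e.range, (g * y * g⁻¹) • w ≠ w := by
    by_contra hcon
    push Not at hcon
    let U : AddSubgroup V :=
      { carrier := {z | ∀ g : G, (g * y * g⁻¹) • z = z}
        add_mem' := fun {a b} ha hb g => by rw [smul_add, ha g, hb g]
        zero_mem' := fun g => smul_zero _
        neg_mem' := fun {a} ha g => by rw [smul_neg, ha g] }
    have hU : Inv G U := fun a z hz g => by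
      have := hz (a⁻¹ * g)
      rw [← mul_smul, show g * y * g⁻¹ * a = a * (a⁻¹ * g * y * (a⁻¹ * g)⁻¹) by group, mul_smul,
        this]
    rcases hI U hU with h | h
    · have : e x0 ∈ U := fun g => hcon g _ ⟨x0, rfl⟩
      rw [h] at this
      exact hx0 this
    · refine hy1 (FaithfulSMul.eq_of_smul_eq_smul (α := V) fun v => ?_)
      have : v ∈ U := h ▸ AddSubgroup.mem_top v
      simpa using this 1
  have hlt : Nat.card H < Nat.card G := by
    by_contra h
    exact hH.1 (Subgroup.eq_top_of_le_card H (not_lt.1 h))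
  obtain ⟨u, hu, hfree⟩ := min_ol hn (lt_of_lt_of_le hlt hc) hW (R.subgroupOf H)
    (fun x hx => by
      obtain ⟨k, hk⟩ := hp ⟨x, hx⟩
      refine ⟨k, fun v => ?_⟩
      have : x ^ r ^ k = 1 := Subtype.ext (congrArg (Subtype.val : R → G) hk)
      rw [this, one_smul])
    (h2.imp_right fun h a ha b hb v => by
      haveI := h
      have : a * b = b * a := Subtype.ext
        (congrArg (Subtype.val : R → G) (mul_comm' (⟨a, ha⟩ : R) ⟨b, hb⟩))
      rw [this])
    (y := ⟨g1 * y * g1⁻¹, hall g1⟩) (hR.conj_mem y hy g1) hw hne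
  haveI : Fintype (G ⧸ H) := Fintype.ofFinite _
  have hfix : e u = u := by obtain ⟨x, rfl⟩ := hu; exact hee x
  have key : ∀ x : G,
      e (x⁻¹ • ∑ ω : G ⧸ H, ω.out • u) = (x⁻¹ * (x : G ⧸ H).out) • u := by
    intro x
    rw [Finset.smul_sum, map_sum, Finset.sum_eq_single (x : G ⧸ H)]
    · rw [← mul_smul, heH _ (QuotientGroup.eq.1 (QuotientGroup.out_eq' (x : G ⧸ H)).symm), hfix]
    · intro ω _ hω
      rw [← mul_smul, ← hfix]
      refine heG _ (fun h => hω ?_) _
      rw [← QuotientGroup.out_eq' ω]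
      exact (QuotientGroup.eq.2 h).symm
    · simp
  refine ⟨∑ ω : G ⧸ H, ω.out • u, fun g hv => ?_⟩
  set x := g * g1⁻¹ with hx
  have hmem : x⁻¹ * (x : G ⧸ H).out ∈ H :=
    QuotientGroup.eq.1 (QuotientGroup.out_eq' (x : G ⧸ H)).symm
  have h3 := key x
  have h4 : e (x⁻¹ • (g * y * g⁻¹) • ∑ ω : G ⧸ H, ω.out • u) = (x⁻¹ * (x : G ⧸ H).out) • u := by
    rw [hv, h3]
  rw [← mul_smul, show x⁻¹ * (g * y * g⁻¹) = g1 * y * g1⁻¹ * x⁻¹ by rw [hx]; group, mul_smul,
    heH _ (hall g1), h3] at h4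
  refine hfree ⟨_, H.inv_mem hmem⟩ ?_
  change ((x⁻¹ * (x : G ⧸ H).out)⁻¹ * (g1 * y * g1⁻¹) * (x⁻¹ * (x : G ⧸ H).out)⁻¹⁻¹) • u = u
  rw [inv_inv, mul_smul, mul_smul, h4, inv_smul_smul]

theorem step_ol {r n : ℕ} [hr : Fact r.Prime] (hn : OL.{u} r n) : OL.{u} r (n + 1) := by
  classical
  intro G V _ _ _ _ _ _ hc hI R hR hp h2 y hy hy1
  have hc' : Nat.card G ≤ n := by omega
  rcases subsingleton_or_nontrivial V with hV | hV
  · exact absurd (FaithfulSMul.eq_of_smul_eq_smul (α := V) fun _ => Subsingleton.elim _ _) hy1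
  by_cases hblock : ∃ (N : Subgroup G) (_ : N.Normal) (_ : IsMulCommutative N),
      ∃ κ ∈ KR V N, κ ≠ 0 ∧ ¬ Function.Injective κ
  · obtain ⟨N, _, _, κ, h1, h3, h4⟩ := hblock
    obtain ⟨H, e, a1, a2, a3, a4, a5⟩ := exists_block hI h1 h3 h4
    exact imprim_ol hn hc' hI a1 e a2 a3 a4 a5 R hp h2 hy hy1
  have hfield : ∀ (N : Subgroup G) (_ : N.Normal) (_ : IsMulCommutative N),
      ∀ κ ∈ KR V N, κ ≠ 0 → Function.Injective κ := fun N h1 h2 κ h3 h4 =>
    by_contra fun h5 => hblock ⟨N, h1, h2, κ, h3, h4, h5⟩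
  have hcyc : ∀ N : Subgroup G, N.Normal → IsMulCommutative N → IsCyclic N := by
    intro N h1 h2
    obtain ⟨K, _, _, _, ι, hι, -⟩ := exists_field (hfield N h1 h2)
    exact isCyclic_of_injective ι (ι_inj ι hι)
  have hconj1 : ∀ (a g : G), a ≠ 1 → g * a * g⁻¹ ≠ 1 := fun a g ha h => ha (by
    have := congrArg (fun z => g⁻¹ * z * g) h
    simpa [mul_assoc] using this)
  obtain ⟨v0, hv0⟩ := exists_ne (0 : V)
  by_cases hab : IsMulCommutative R
  · obtain ⟨K, _, _, _, ι, hι, -⟩ := exists_field (hfield R hR hab)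
    exact ⟨v0, fun g e => hv0 (AddSubgroup.mem_bot.1
      (Fix_eq_bot ι hι (hR.conj_mem y hy g) (hconj1 y g hy1) ▸ (mem_Fix.2 e)))⟩
  have hr2 : r ≠ 2 := h2.resolve_right hab
  have hro : Odd r := hr.out.odd_of_ne_two hr2
  have hodd : Odd (Nat.card R) := by
    obtain ⟨k, hk⟩ := IsPGroup.iff_card.1 hp
    rw [hk]; exact hro.pow
  have hchar : ∀ A : Subgroup R, A.Characteristic → IsMulCommutative A → IsCyclic A := by
    intro A h1 h3
    haveI := hcyc (A.map R.subtype) inferInstance inferInstance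
    exact isCyclic_of_injective (A.equivMapOfInjective _ R.subtype_injective).toMonoidHom
      (MulEquiv.injective _)
  obtain ⟨hcl, k, hk⟩ := hall_odd hp hodd hchar
  haveI hZc : IsCyclic (center R) := hchar _ inferInstance inferInstance
  set Z := (center R).map R.subtype with hZ
  have hZm : ∀ x : R, (x : G) ∈ Z ↔ x ∈ center R := fun x =>
    mem_map_iff_mem R.subtype_injective
  obtain ⟨K, _, _, _, ι, hι, hlin⟩ := exists_field (hfield Z inferInstance inferInstance)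
  have hRC : R ≤ centralizer (Z : Set G) := by
    rintro x hx _ ⟨z, hz, rfl⟩
    exact (congrArg (Subtype.val : R → G) (mem_center_iff.1 hz ⟨x, hx⟩)).symm
  have hcm : ∀ a ∈ R, ∀ b ∈ R, ⁅a, b⁆ ∈ Z := fun a ha b hb => (hZm ⁅⟨a, ha⟩, ⟨b, hb⟩⁆).2 (hcl _ _)
  have hZR : ∀ x ∈ R, (∀ b ∈ R, b * x = x * b) → x ∈ Z := fun x hx h =>
    (hZm ⟨x, hx⟩).2 (mem_center_iff.2 fun b => Subtype.ext (h b b.2))
  have hdim := relIndex_le_finrank_sq ι hι hlin hRC hcm hZR
  have hrel : Z.relIndex R = r ^ (2 * k) := by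
    rw [← hk, relIndex, hZ, ← comap_subtype, comap_map_eq_self_of_injective R.subtype_injective]
  rw [hrel, mul_comm 2 k, pow_mul] at hdim
  have hdim' : r ^ k ≤ Module.finrank K V := (Nat.pow_le_pow_iff_left two_ne_zero).1 hdim
  have hk0 : k ≠ 0 := by
    rintro rfl
    rw [mul_zero, pow_zero, index_eq_one] at hk
    exact hab ⟨⟨fun a b => (mem_center_iff.1 (hk ▸ mem_top b : b ∈ center R) a)⟩⟩
  have hr3 : 3 ≤ r := by have := hr.out.two_le; omega
  have hre : r ≤ r ^ k := Nat.le_self_pow hk0 r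
  haveI : Nontrivial R := ⟨⟨⟨y, hy⟩, 1, fun e => hy1 (congrArg Subtype.val e)⟩⟩
  have hK : 4 ≤ Nat.card K := by
    haveI := hp.center_nontrivial
    have h1 : r ∣ Nat.card (center R) := by
      obtain ⟨j, hj, e⟩ := (hp.to_subgroup (center R)).nontrivial_iff_card.1 inferInstance
      rw [e]; exact dvd_pow_self r hj.ne'
    have h3 : Nat.card Z ∣ Nat.card K - 1 := by
      rw [← Nat.card_units]
      exact card_dvd_of_injective ι (ι_inj ι hι)
    rw [hZ, card_map_of_injective R.subtype_injective] at h3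
    have h4 : 1 < Nat.card K := Finite.one_lt_card
    have := Nat.le_of_dvd (by omega) (h1.trans h3)
    omega
  haveI : Module.Finite K V := Module.Finite.of_finite
  have hV4 : 4 ^ r ^ k ≤ Nat.card V := by
    rw [Module.natCard_eq_pow_finrank (K := K) (V := V)]
    exact (Nat.pow_le_pow_left hK _).trans (Nat.pow_le_pow_right (by omega) hdim')
  have f1 : ∀ x ∈ R, x ≠ 1 → Nat.card (Fix V x) ^ 3 ≤ Nat.card V := by
    intro x hx h1
    by_cases hxZ : x ∈ Z
    · rw [Fix_eq_bot ι hι hxZ h1, AddSubgroup.card_bot]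
      exact Nat.card_pos
    · obtain ⟨b, hb, hne⟩ : ∃ b ∈ R, b * x ≠ x * b := by
        by_contra h
        push Not at h
        exact hxZ (hZR x hx h)
      refine card_Fix_cube ι hι hlin (hRC hx) (hRC hb) (hcm b hb x hx) fun h => hne ?_
      have h3 : ⁅(⟨b, hb⟩ : R), (⟨x, hx⟩ : R)⁆ = 1 := eq_one_of_sq hodd (Subtype.ext h)
      exact congrArg (Subtype.val : R → G) (commutatorElement_eq_one_iff_mul_comm.1 h3)
  obtain ⟨y', hy'1, hy'r, j, rfl⟩ : ∃ y' : G, y' ≠ 1 ∧ y' ^ r = 1 ∧ ∃ j : ℕ, y' = y ^ j := by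
    obtain ⟨i, hi⟩ := hp ⟨y, hy⟩
    have hex : ∃ i : ℕ, y ^ r ^ i = 1 := ⟨i, congrArg (Subtype.val : R → G) hi⟩
    have h0 : Nat.find hex ≠ 0 := fun e => hy1 (by simpa [e] using Nat.find_spec hex)
    obtain ⟨m, hm⟩ := Nat.exists_eq_succ_of_ne_zero h0
    refine ⟨y ^ r ^ m, Nat.find_min hex (by omega), ?_, _, rfl⟩
    rw [← pow_mul, ← pow_succ]
    have := Nat.find_spec hex
    rwa [hm] at this
  by_contra hcon
  push Not at hcon
  haveI := Fintype.ofFinite V
  haveI := Fintype.ofFinite R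
  set S : Finset R := Finset.univ.filter fun s : R => s ^ r = 1 ∧ s ≠ 1 with hS
  have hSc : S.card ≤ r * r ^ (2 * k) := by
    rw [← hk]
    refine le_trans (Finset.card_le_card fun s hs => ?_) (card_root_le hr.out.pos)
    simp only [hS, Finset.mem_filter, Finset.mem_univ, true_and] at hs ⊢
    exact hs.1
  obtain ⟨s0, hs0, hmax⟩ := S.exists_max_image (fun s => Nat.card (Fix V (s : G)))
    ⟨⟨y ^ j, R.pow_mem hy j⟩, by
      simp only [hS, Finset.mem_filter, Finset.mem_univ, true_and]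
      exact ⟨Subtype.ext hy'r, fun e => hy'1 (congrArg Subtype.val e)⟩⟩
  have hs0' : (s0 : G) ≠ 1 := fun e => (Finset.mem_filter.1 hs0).2.2 (Subtype.ext e)
  have hm := f1 s0 s0.2 hs0'
  have hdc := Finset.card_mul_le_card_mul (fun (v : V) (s : R) => (s : G) • v = v)
    (s := Finset.univ) (t := S) (m := 2) (n := Nat.card (Fix V (s0 : G))) (fun v _ => ?_)
    (fun s hs => ?_)
  · rw [Finset.card_univ, ← Nat.card_eq_fintype_card] at hdc
    have e1 := Nat.pow_le_pow_left hdc 3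
    have e2 : S.card ^ 3 ≤ (r ^ k) ^ 9 := by
      calc S.card ^ 3 ≤ (r ^ k * r ^ (2 * k)) ^ 3 :=
            Nat.pow_le_pow_left (hSc.trans (Nat.mul_le_mul_right _ hre)) 3
        _ = _ := by ring
    have e3 := num9 (hr3.trans hre)
    have e4 : 16 ^ r ^ k ≤ Nat.card V ^ 2 := by
      rw [show 16 ^ r ^ k = (4 ^ r ^ k) ^ 2 by rw [← pow_mul, mul_comm, pow_mul]; norm_num]
      exact Nat.pow_le_pow_left hV4 2
    have e5 : 0 < Nat.card V := Nat.card_pos
    have e6 : Nat.card V * (8 * Nat.card V ^ 2) ≤ Nat.card V * (r ^ k) ^ 9 := by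
      calc _ = (Nat.card V * 2) ^ 3 := by ring
        _ ≤ _ := e1
        _ = Nat.card (Fix V (s0 : G)) ^ 3 * S.card ^ 3 := by ring
        _ ≤ _ := Nat.mul_le_mul hm e2
    have := Nat.le_of_mul_le_mul_left e6 e5
    omega
  · obtain ⟨g, hg⟩ := hcon v
    have hc1 : g * y ^ j * g⁻¹ ∈ MulAction.stabilizer G v := by
      rw [← conj_pow]
      exact (MulAction.stabilizer G v).pow_mem hg j
    let c : R := ⟨g * y ^ j * g⁻¹, hR.conj_mem _ (R.pow_mem hy j) g⟩
    have hcr : c ^ r = 1 := Subtype.ext (by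
      change (g * y ^ j * g⁻¹) ^ r = 1
      rw [conj_pow, hy'r, mul_one, mul_inv_cancel])
    have hc0 : c ≠ 1 := fun e => hconj1 _ g hy'1 (congrArg Subtype.val e)
    have hcc : c ≠ c⁻¹ := fun e => hc0 (eq_one_of_sq hodd (by
      rw [pow_two]; exact mul_eq_one_iff_eq_inv.2 e))
    rw [← Finset.card_pair hcc]
    refine Finset.card_le_card fun s hs => ?_
    simp only [Finset.mem_insert, Finset.mem_singleton] at hs
    simp only [Finset.mem_bipartiteAbove, hS, Finset.mem_filter, Finset.mem_univ, true_and]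
    rcases hs with rfl | rfl
    · exact ⟨⟨hcr, hc0⟩, hc1⟩
    · exact ⟨⟨by rw [inv_pow, hcr, inv_one], inv_ne_one.2 hc0⟩,
        (MulAction.stabilizer G v).inv_mem hc1⟩
  · refine le_trans (le_of_eq ?_) (hmax s hs)
    exact (Nat.subtype_card _ fun v => by simp [Finset.mem_bipartiteBelow, mem_Fix]).symm

theorem ol (r n : ℕ) [Fact r.Prime] : OL.{u} r n := by
  induction n with
  | zero => intro G V _ _ _ _ _ _ hc; exact absurd hc (Nat.not_lt_zero _)
  | succ n ih => exact step_ol ih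

theorem orbit_min {r : ℕ} [Fact r.Prime] {G : Type*} {V : Type u} [Group G] [Finite G]
    [AddCommGroup V] [Finite V] [DistribMulAction G V] {M : AddSubgroup V} (hM : MinInv G M)
    (R : Subgroup G) [hR : R.Normal] (h1 : ∀ x ∈ R, ∃ k : ℕ, ∀ v : V, (x ^ r ^ k) • v = v)
    (h2 : r ≠ 2 ∨ ∀ a ∈ R, ∀ b ∈ R, ∀ v : V, (a * b) • v = (b * a) • v) {y : G} (hy : y ∈ R)
    {w : V} (hwM : w ∈ M) (hw : y • w ≠ w) : ∃ v ∈ M, ∀ g : G, (g * y * g⁻¹) • v ≠ v :=
  min_ol (ol r (Nat.card G + 1)) (Nat.lt_succ_self _) hM R h1 h2 hy hwM hw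

end Cfsg.Agent.Mult.NV
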