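import Cfsg.Agent.Mult.NonVan1
import Cfsg.Agent.CharDeep.Clifford
import Cfsg.Agent.Solv.MinNormal
import Mathlib.GroupTheory.FiniteAbelian.Duality
import Mathlib.Analysis.Complex.Polynomial.Basic
import Mathlib.RingTheory.RootsOfUnity.AlgebraicallyClosed

/-! Nonvanishing elements of solvable groups (Isaacs-Navarro-Wolf, the part used for vanishing
orders): an `r`-element `y` that is a power of a nonvanishing element lies in the Fitting
subgroup when `r` is odd or `y` lies in a normal subgroup with commutators of odd order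
(`NV.mem_fitting`). -/

set_option autoImplicit false

namespace Cfsg.Agent.Mult.NV

open Subgroup Cfsg.Agent.CH.Reg Cfsg.Agent.Char Cfsg.Agent.CharDeep
open scoped IsMulCommutative commutatorElement

universe u

/-- Vanishing elements. -/
def Van {G : Type*} [Group G] (x : G) : Prop := ∃ χ : G → ℂ, IsIrrCharacter G χ ∧ χ x = 0

theorem Van.of_surj {G H : Type*} [Group G] [Group H] (f : H →* G) (hf : Function.Surjective f)
    {x : H} (h : Van (f x)) : Van x := by
  obtain ⟨χ, h1, h2⟩ := h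
  exact ⟨_, h1.comp_of_surjective f hf, h2⟩

theorem van_of_inertia {G : Type*} [Group G] [Finite G] (N : Subgroup G) [N.Normal] {θ : N → ℂ}
    (hθ : IsIrrCharacter N θ) {x : G} (h : ∀ g : G, g * x * g⁻¹ ∉ inertia N θ) : Van x := by
  haveI := Fintype.ofFinite G
  haveI := Fintype.ofFinite N
  obtain ⟨χ, h1, h2⟩ := exists_irr_over N hθ
  obtain ⟨ψ, -, h3, -⟩ := exists_indFun_eq_of_inertia N hθ rfl (le_inertia N hθ.isClassFunction) h1 h2
  refine ⟨χ, h1, ?_⟩
  rw [← h3]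
  exact indFun_eq_zero_of_forall_not_mem _ _ h

/-- The action on the dual of a normal subgroup. -/
@[reducible] def dualAct {G : Type*} [Group G] (N : Subgroup G) [N.Normal] :
    DistribMulAction G (Additive (N →* ℂˣ)) where
  smul g φ := Additive.ofMul (φ.toMul.comp (MulAut.conjNormal g⁻¹ : MulAut N).toMonoidHom)
  one_smul φ := by
    apply Additive.toMul.injective
    ext1 n
    change φ.toMul (MulAut.conjNormal (1 : G)⁻¹ n) = φ.toMul n
    simp
  mul_smul a b φ := by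
    apply Additive.toMul.injective
    ext1 n
    change φ.toMul (MulAut.conjNormal (a * b)⁻¹ n) =
      φ.toMul (MulAut.conjNormal b⁻¹ (MulAut.conjNormal a⁻¹ n))
    rw [mul_inv_rev, map_mul]; rfl
  smul_zero _ := rfl
  smul_add _ _ _ := rfl

theorem exists_minInv (G V : Type*) [Group G] [AddCommGroup V] [Finite V] [Nontrivial V]
    [DistribMulAction G V] : ∃ M : AddSubgroup V, MinInv G M ∧ M ≠ ⊥ := by
  have htop : (⊤ : AddSubgroup V) ∈ {M : AddSubgroup V | CH.Reg.Inv G M ∧ M ≠ ⊥} :=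
    ⟨fun _ _ _ => AddSubgroup.mem_top _, top_ne_bot⟩
  obtain ⟨M, hM⟩ := (Set.toFinite _).exists_minimal ⟨_, htop⟩
  refine ⟨M, ⟨hM.1.1, fun U hU hUM => ?_⟩, hM.1.2⟩
  by_cases hb : U = ⊥
  · exact Or.inl hb
  · exact Or.inr (le_antisymm hUM (hM.2 ⟨hU, hb⟩ hUM))

theorem van_of_act {G : Type*} [Group G] [Finite G] {r : ℕ} [Fact r.Prime] (N : Subgroup G)
    [hN : N.Normal] [IsMulCommutative N]
    (hmin : ∀ L : Subgroup G, L.Normal → L ≤ N → L = ⊥ ∨ L = N) (R : Subgroup G) [R.Normal]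
    (h1 : ∀ a ∈ R, ∃ k : ℕ, a ^ r ^ k ∈ N) (h2 : r ≠ 2 ∨ ∀ a ∈ R, ∀ b ∈ R, ⁅a, b⁆ ∈ N)
    {x : G} {j : ℕ} (hy : x ^ j ∈ R) (hn : x ^ j ∉ centralizer (N : Set G)) : Van x := by
  letI := dualAct N
  have hap : ∀ (g : G) (φ : Additive (N →* ℂˣ)) (n : N),
      (g • φ).toMul n = φ.toMul (MulAut.conjNormal g⁻¹ n) := fun _ _ _ => rfl
  have htriv : ∀ a ∈ N, ∀ φ : Additive (N →* ℂˣ), a • φ = φ := by
    intro a ha φ
    apply Additive.toMul.injective
    ext1 n
    rw [hap]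
    congr 1
    apply Subtype.ext
    have := congrArg (Subtype.val : N → G) (mul_comm' (⟨a, ha⟩ : N) n)
    simp only [coe_mul] at this
    rw [MulAut.conjNormal_apply, inv_inv, mul_assoc, ← this, inv_mul_cancel_left]
  obtain ⟨n0, hn0, hne⟩ : ∃ n ∈ N, n * x ^ j ≠ x ^ j * n := by
    by_contra h
    push Not at h
    exact hn h
  have hn1 : (⟨n0, hn0⟩ : N) ≠ 1 := fun e => hne (by
    rw [show n0 = 1 from congrArg Subtype.val e, one_mul, mul_one])
  obtain ⟨φ0, hφ0⟩ := CommGroup.exists_apply_ne_one_of_hasEnoughRootsOfUnity N ℂ hn1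
  haveI : Nontrivial (Additive (N →* ℂˣ)) :=
    ⟨Additive.ofMul φ0, 0, fun e => hφ0 (by rw [show φ0 = 1 from e]; rfl)⟩
  obtain ⟨M, hM', hM0⟩ := exists_minInv G (Additive (N →* ℂˣ))
  obtain ⟨w, hwM, hw⟩ : ∃ w ∈ M, x ^ j • w ≠ w := by
    by_contra hcon
    push Not at hcon
    let K0 : Subgroup N := ⨅ φ ∈ M, (Additive.toMul φ).ker
    have hK0 : ∀ n : N, n ∈ K0 ↔ ∀ φ ∈ M, Additive.toMul φ n = 1 := fun n => by
      simp only [K0, mem_iInf, MonoidHom.mem_ker]
    have hK : (K0.map N.subtype).Normal := ⟨by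
      rintro _ ⟨n, hn, rfl⟩ g
      refine ⟨MulAut.conjNormal g n, (hK0 _).2 fun φ hφ => ?_, rfl⟩
      have := (hK0 n).1 hn _ (hM'.1 g⁻¹ φ hφ)
      rwa [hap, inv_inv] at this⟩
    rcases hmin _ hK (map_subtype_le _) with h | h
    · have h3 : MulAut.conjNormal (x ^ j)⁻¹ (⟨n0, hn0⟩ : N) * (⟨n0, hn0⟩ : N)⁻¹ ∈ K0 :=
        (hK0 _).2 fun φ hφ => by rw [map_mul, ← hap, hcon φ hφ, ← map_mul, mul_inv_cancel, map_one]
      have h4 := mem_map_of_mem N.subtype h3
      rw [h, mem_bot] at h4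
      simp only [coe_subtype, coe_mul, MulAut.conjNormal_apply, inv_inv, coe_inv] at h4
      rw [mul_inv_eq_one, mul_assoc, inv_mul_eq_iff_eq_mul] at h4
      exact hne h4
    · refine hM0 (eq_bot_iff.2 fun φ hφ => ?_)
      rw [AddSubgroup.mem_bot]
      apply Additive.toMul.injective
      ext1 n
      have : (n : G) ∈ K0.map N.subtype := by rw [h]; exact n.2
      exact (hK0 n).1 ((mem_map_iff_mem N.subtype_injective).1 this) φ hφ
  obtain ⟨v, -, hv⟩ := orbit_min (r := r) hM' R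
    (fun a ha => (h1 a ha).imp fun k hk => htriv _ hk)
    (h2.imp_right fun h a ha b hb v => by
      rw [show a * b = ⁅a, b⁆ * (b * a) by rw [commutatorElement_def]; group, mul_smul,
        htriv _ (h a ha b hb)]) hy hwM hw
  refine van_of_inertia N (isIrrCharacter_hom v.toMul) fun g hg => hv g ?_
  have h5 := (mem_inertia' N).1 ((inertia N _).inv_mem ((inertia N _).pow_mem hg j))
  rw [conj_pow] at h5
  apply Additive.toMul.injective
  ext1 n
  exact Units.ext (h5 n)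

theorem mem_fitting_aux {r : ℕ} [hr : Fact r.Prime] (n : ℕ) :
    ∀ (G : Type u) [Group G] [Finite G] [Group.IsSolvable G], Nat.card G < n →
      ∀ (A : Subgroup G) [A.Normal], (r ≠ 2 ∨ ∀ a ∈ A, ∀ b ∈ A, Odd (orderOf ⁅a, b⁆)) →
      ∀ (x : G) (j k : ℕ), ¬ Van x → x ^ j ∈ A → (x ^ j) ^ r ^ k = 1 →
      x ^ j ∈ fittingSubgroup G := by
  induction n with
  | zero => intro G _ _ _ hc; exact absurd hc (Nat.not_lt_zero _)
  | succ n ih =>
  intro G _ _ _ hc A hA h2 x j k hx hxA hk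
  rcases subsingleton_or_nontrivial G with hG | hG
  · rw [Subsingleton.elim (x ^ j) 1]; exact one_mem _
  obtain ⟨q, N, -, hN, hN0, hNc, -, -, hmin⟩ := Solv.exists_normal_elementary G
  set f := QuotientGroup.mk' N with hf
  have hfs : Function.Surjective f := QuotientGroup.mk'_surjective N
  have hlt : Nat.card (G ⧸ N) < n := by
    have e1 := N.card_mul_index
    have e2 : 1 < Nat.card N := (N.one_lt_card_iff_ne_bot).2 hN0
    have e3 : 0 < N.index := Nat.pos_of_ne_zero index_ne_zero_of_finite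
    change N.index < n
    nlinarith
  haveI : (A.map f).Normal := hA.map f hfs
  have hA' : r ≠ 2 ∨ ∀ a ∈ A.map f, ∀ b ∈ A.map f, Odd (orderOf ⁅a, b⁆) :=
    h2.imp_right fun h => by
      rintro _ ⟨a, ha, rfl⟩ _ ⟨b, hb, rfl⟩
      rw [← map_commutatorElement]
      exact odd_of_dvd (orderOf_map_dvd f _) (h a ha b hb)
  have hk' : (f x ^ j) ^ r ^ k = 1 := by rw [← map_pow, ← map_pow, hk, map_one]
  have hfit := ih (G ⧸ N) hlt (A.map f) hA' (f x) j k (fun h => hx (h.of_surj f hfs))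
    (by rw [← map_pow]; exact mem_map_of_mem f hxA) hk'
  have hpc : f x ^ j ∈ pCore r (G ⧸ N) := by
    refine Solv.le_pCore_of_le_fitting (Q := zpowers (f x ^ j)) ?_ (zpowers_le_of_mem hfit)
      (mem_zpowers _)
    rintro ⟨_, i, rfl⟩
    refine ⟨k, Subtype.ext ?_⟩
    change ((f x ^ j) ^ i) ^ r ^ k = 1
    rw [← zpow_natCast, ← zpow_mul, mul_comm, zpow_mul, zpow_natCast, hk', one_zpow]
  set R := (pCore r (G ⧸ N) ⊓ A.map f).comap f with hR
  have hxR : x ^ j ∈ R := ⟨by rw [map_pow]; exact hpc, mem_map_of_mem f hxA⟩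
  have hker : ∀ a : G, f a = 1 → a ∈ N := fun a h => (QuotientGroup.eq_one_iff a).1 h
  have h1 : ∀ a ∈ R, ∃ k : ℕ, a ^ r ^ k ∈ N := fun a ha => by
    obtain ⟨i, hi⟩ := Solv.isPGroup_pCore r (G ⧸ N) ⟨f a, ha.1⟩
    exact ⟨i, hker _ (by rw [map_pow]; exact congrArg Subtype.val hi)⟩
  by_cases hcen : x ^ j ∈ centralizer (N : Set G)
  · set C := R ⊓ centralizer (N : Set G) with hC
    have hp : IsPGroup r (C ⧸ center C) := by
      intro c
      obtain ⟨c, rfl⟩ := QuotientGroup.mk_surjective c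
      obtain ⟨i, hi⟩ := h1 c c.2.1
      refine ⟨i, ?_⟩
      rw [← QuotientGroup.mk_pow, QuotientGroup.eq_one_iff, mem_center_iff]
      intro d
      exact Subtype.ext (d.2.2 _ hi).symm
    haveI : Group.IsNilpotent C := Group.of_quotient_center_nilpotent hp.isNilpotent
    exact Solv.le_fitting (N := C) ⟨hxR, hcen⟩
  · refine absurd (van_of_act (r := r) N hmin R h1 ?_ hxR hcen) hx
    by_cases hr2 : r = 2
    · refine Or.inr fun a ha b hb => hker _ ?_
      have h3 := hA'.resolve_left (fun h => h hr2) _ ha.2 _ hb.2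
      obtain ⟨i, hi⟩ := Solv.isPGroup_pCore r (G ⧸ N) 
        ⁅(⟨f a, ha.1⟩ : pCore r (G ⧸ N)), (⟨f b, hb.1⟩ : pCore r (G ⧸ N))⁆
      have h4 : orderOf ⁅f a, f b⁆ ∣ 2 ^ i :=
        orderOf_dvd_of_pow_eq_one (hr2 ▸ congrArg Subtype.val hi)
      rw [map_commutatorElement, ← orderOf_eq_one_iff]
      exact Nat.eq_one_of_dvd_coprimes ((Nat.coprime_two_right.2 h3).pow_right i) dvd_rfl h4
    · exact Or.inl hr2

theorem mem_fitting {r : ℕ} [Fact r.Prime] {G : Type*} [Group G] [Finite G] [Group.IsSolvable G]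
    (A : Subgroup G) [A.Normal] (h : r ≠ 2 ∨ ∀ a ∈ A, ∀ b ∈ A, Odd (orderOf ⁅a, b⁆)) {x : G}
    {j k : ℕ} (hx : ¬ Van x) (h1 : x ^ j ∈ A) (h2 : (x ^ j) ^ r ^ k = 1) :
    x ^ j ∈ fittingSubgroup G :=
  mem_fitting_aux _ G (Nat.lt_succ_self _) A h x j k hx h1 h2

end Cfsg.Agent.Mult.NV
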