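import Cfsg.Agent.Mult.NonVan2
import Cfsg.Agent.S0058

/-! Solvable groups whose `p`-singular vanishing elements all have the same order: modulo
`O_p(G)` every `p`-subgroup has order dividing `p` (`NV.card_dvd_prime`). -/

set_option autoImplicit false

namespace Cfsg.Agent.Mult.NV

open Subgroup
open scoped IsMulCommutative commutatorElement

section

variable {G H : Type*} [Group G] [Finite G] [Group H] [Finite H] [Group.IsSolvable H] {p : ℕ}
  [hp : Fact p.Prime] (f : G →* H) (hf : Function.Surjective f) (hk : IsPGroup p f.ker)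
  (hH : pCore p H = ⊥)
  (hb : ∀ g g' : G, Van g → p ∣ orderOf g → Van g' → p ∣ orderOf g' → orderOf g = orderOf g')

omit [Finite G] in
include hf hH in
theorem van_lift (A : Subgroup H) [A.Normal]
    (hA : p ≠ 2 ∨ ∀ a ∈ A, ∀ b ∈ A, Odd (orderOf ⁅a, b⁆)) {g : G} {j k : ℕ}
    (h1 : f g ^ j ∈ A) (h2 : f g ^ j ≠ 1) (h3 : (f g ^ j) ^ p ^ k = 1) :
    Van g ∧ p ∣ orderOf g := by
  constructor
  · refine Van.of_surj f hf (by_contra fun h => h2 ?_)
    have h4 := mem_fitting A hA h h1 h3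
    have hpc : f g ^ j ∈ pCore p H := by
      refine Solv.le_pCore_of_le_fitting (Q := zpowers (f g ^ j)) ?_ (zpowers_le_of_mem h4)
        (mem_zpowers _)
      rintro ⟨_, i, rfl⟩
      refine ⟨k, Subtype.ext ?_⟩
      change ((f g ^ j) ^ i) ^ p ^ k = 1
      rw [← zpow_natCast, ← zpow_mul, mul_comm, zpow_mul, zpow_natCast, h3, one_zpow]
    rwa [hH, mem_bot] at hpc
  · obtain ⟨i, -, hi⟩ := (Nat.dvd_prime_pow hp.out).1 (orderOf_dvd_of_pow_eq_one h3)
    have h0 : i ≠ 0 := by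
      rintro rfl
      exact h2 (orderOf_eq_one_iff.1 hi)
    exact ((dvd_pow_self p h0).trans (hi ▸ orderOf_pow_dvd j)).trans (orderOf_map_dvd f g)

include hf hk hH hb in
theorem good (A : Subgroup H) [A.Normal]
    (hA : p ≠ 2 ∨ ∀ a ∈ A, ∀ b ∈ A, Odd (orderOf ⁅a, b⁆)) {m : H} {j k : ℕ}
    (h1 : m ^ j ∈ A) (h2 : m ^ j ≠ 1) (h3 : (m ^ j) ^ p ^ k = 1) : m ∈ A ∧ m ^ p = 1 := by
  obtain ⟨g, rfl⟩ := hf m
  obtain ⟨v1, d1⟩ := van_lift f hf hH A hA h1 h2 h3
  obtain ⟨v2, d2⟩ := van_lift f hf hH A hA (g := g ^ j) (j := 1) (k := k)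
    (by simpa using h1) (by simpa using h2) (by simpa using h3)
  obtain ⟨i, hi⟩ := hk ⟨(g ^ j) ^ p ^ k, by rw [MonoidHom.mem_ker, map_pow, map_pow, h3]⟩
  have h4 : (g ^ j) ^ p ^ (k + i) = 1 := by
    rw [pow_add, pow_mul]; exact congrArg Subtype.val hi
  have h5 : orderOf g ∣ p ^ (k + i) := hb _ _ v1 d1 v2 d2 ▸ orderOf_dvd_of_pow_eq_one h4
  have hno : ∀ j' k' : ℕ, f (g ^ p) ^ j' ∈ A → f (g ^ p) ^ j' ≠ 1 →
      (f (g ^ p) ^ j') ^ p ^ k' = 1 → False := by
    intro j' k' e1 e2 e3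
    obtain ⟨v3, d3⟩ := van_lift f hf hH A hA e1 e2 e3
    have e4 := hb _ _ v1 d1 v3 d3
    rw [orderOf_pow_of_dvd hp.out.ne_zero d1] at e4
    have := Nat.div_lt_self (orderOf_pos g) hp.out.one_lt
    omega
  have hj : ¬ p ∣ j := by
    rintro ⟨t, rfl⟩
    exact hno t k (by rwa [map_pow, ← pow_mul]) (by rwa [map_pow, ← pow_mul])
      (by rwa [map_pow, ← pow_mul (f g)])
  have hcop : (orderOf (f g)).Coprime j :=
    Nat.Coprime.coprime_dvd_left ((orderOf_map_dvd f g).trans h5)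
      (((Nat.Prime.coprime_iff_not_dvd hp.out).2 hj).pow_left _)
  obtain ⟨t, ht⟩ := exists_pow_eq_self_of_coprime hcop.symm
  have hA1 : f g ∈ A := ht ▸ A.pow_mem h1 t
  refine ⟨hA1, by_contra fun h => hno 1 (k + i) ?_ ?_ ?_⟩
  · rw [pow_one, map_pow]; exact A.pow_mem hA1 p
  · rwa [pow_one, map_pow]
  · rw [pow_one, ← map_pow, ← pow_mul, mul_comm, pow_mul, orderOf_dvd_iff_pow_eq_one.1 h5,
      one_pow, map_one]

include hH in
theorem fit_le : fittingSubgroup H ≤ pPrimeCore p H := by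
  have := Solv.fitting_le_sup (G := H) (p := p)
  rwa [hH, bot_sup_eq] at this

include hf hk hH hb in
theorem odd_case (h2 : p ≠ 2) {Q : Subgroup H} (hQ : IsPGroup p Q) :
    ∃ z : H, z ^ p = 1 ∧ Q ≤ zpowers z := by
  by_cases hQ0 : Q = ⊥
  · exact ⟨1, one_pow _, hQ0 ▸ bot_le⟩
  haveI : Nontrivial Q := (nontrivial_iff_ne_bot Q).2 hQ0
  haveI : Nontrivial H := Q.subtype_injective.nontrivial
  have hexp : ∀ a ∈ Q, a ^ p = 1 := fun a ha => by
    by_cases h1 : a = 1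
    · rw [h1, one_pow]
    obtain ⟨k, e⟩ := hQ ⟨a, ha⟩
    exact (good f hf hk hH hb ⊤ (Or.inl h2) (j := 1) (k := k) (mem_top _) (by simpa using h1)
      (by simpa using congrArg Subtype.val e)).2
  haveI := hQ.center_nontrivial
  obtain ⟨⟨z, hz⟩, hz1⟩ := exists_ne (1 : center Q)
  have hz1' : (z : H) ≠ 1 := fun e => hz1 (Subtype.ext (Subtype.ext e))
  refine ⟨z, hexp z z.2, fun y hy => by_contra fun hyz => ?_⟩
  have hc : Commute y (z : H) := congrArg Subtype.val (mem_center_iff.1 hz ⟨y, hy⟩)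
  set A := closure ({y, (z : H)} : Set H) with hA
  have hAQ : A ≤ Q := (closure_le Q).2 (by
    rintro _ (rfl | rfl)
    · exact hy
    · exact z.2)
  haveI : IsMulCommutative A := isMulCommutative_closure (by
    rintro _ (rfl | rfl) _ (rfl | rfl)
    · rfl
    · exact hc
    · exact hc.symm
    · rfl)
  have hnc : ¬ IsCyclic A := by
    intro h
    have e1 : Nat.card A ∣ p := by
      rw [← IsCyclic.exponent_eq_card]
      exact Monoid.exponent_dvd_of_forall_pow_eq_one fun a => Subtype.ext (hexp a (hAQ a.2))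
    have e2 : zpowers (z : H) ≤ A := zpowers_le_of_mem (subset_closure (by simp))
    have e3 : Nat.card (zpowers (z : H)) = p := by
      rw [Nat.card_zpowers, orderOf_eq_prime (hexp z z.2) hz1']
    have e4 : zpowers (z : H) = A :=
      eq_of_le_of_card_ge e2 (e3 ▸ Nat.le_of_dvd hp.out.pos e1)
    exact hyz (e4 ▸ subset_closure (by simp))
  set K := pPrimeCore p H with hK
  have hcop : (Nat.card K).Coprime p := Solv.coprime_card_pPrimeCore p H
  have h58 := S0058.result A K hnc le_normalizer_of_normal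
    (Solv.coprime_card_of_isPGroup (hQ.to_le hAQ) hcop)
  refine Solv.fitting_ne_bot (G := H) (eq_bot_iff.2 ((fit_le hH).trans ?_))
  rw [← hK, ← h58]
  refine iSup₂_le fun a ha c hc => ?_
  have hca : Commute a c := (mem_centralizer_singleton_iff.1 hc.2).symm
  have hcK : c ^ Nat.card K = 1 := congrArg Subtype.val (pow_card_eq_one' (x := (⟨c, hc.1⟩ : K)))
  have hap := hexp a (hAQ ha.1)
  have e1 : (a * c) ^ Nat.card K = a ^ Nat.card K := by rw [hca.mul_pow, hcK, mul_one]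
  have e2 := (good f hf hk hH hb ⊤ (Or.inl h2) (m := a * c) (j := Nat.card K) (k := 1)
    (mem_top _) (by
      rw [e1]
      intro e
      exact ha.2 (orderOf_eq_one_iff.1 (Nat.eq_one_of_dvd_coprimes hcop
        (orderOf_dvd_of_pow_eq_one e) (orderOf_dvd_of_pow_eq_one hap))))
    (by rw [e1, pow_one, ← pow_mul, mul_comm, pow_mul, hap, one_pow])).2
  rw [hca.mul_pow, hap, one_mul] at e2
  exact mem_bot.2 (orderOf_eq_one_iff.1 (Nat.eq_one_of_dvd_coprimes hcop
    (orderOf_dvd_of_pow_eq_one hcK) (orderOf_dvd_of_pow_eq_one e2)))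

include hf hk hH hb in
theorem two_good (h2 : p = 2) (B : Subgroup H) [B.Normal] (hB : ∀ b ∈ B, b ^ 2 ∈ pPrimeCore p H)
    {m : H} {j : ℕ} (h1 : m ^ j ∈ B) (h3 : m ^ j ∉ pPrimeCore p H) : m ∈ B ∧ m ^ 2 = 1 := by
  subst h2
  set K := pPrimeCore 2 H with hK
  have hodd : Odd (Nat.card K) := Nat.coprime_two_right.1 (Solv.coprime_card_pPrimeCore 2 H)
  have hcK : ∀ c ∈ K, c ^ Nat.card K = 1 := fun c hc =>
    congrArg Subtype.val (pow_card_eq_one' (x := (⟨c, hc⟩ : K)))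
  refine good f hf hk hH hb B (Or.inr fun a ha b hb' => ?_) (j := j * Nat.card K) (k := 1)
    (by rw [pow_mul]; exact B.pow_mem h1 _) (fun e => h3 ?_) ?_
  · refine CH.Reg.odd_of_dvd (orderOf_dvd_of_pow_eq_one (hcK _ ?_)) hodd
    have e : ⁅a, b⁆ = a ^ 2 * (a⁻¹ * b) ^ 2 * (b⁻¹) ^ 2 := by
      rw [commutatorElement_def]; simp only [pow_two]; group
    rw [e]
    exact K.mul_mem (K.mul_mem (hB a ha) (hB _ (B.mul_mem (B.inv_mem ha) hb')))
      (hB _ (B.inv_mem hb'))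
  · obtain ⟨t, ht⟩ := hodd
    rw [pow_mul, ht, pow_succ, pow_mul, mul_eq_one_iff_inv_eq] at e
    rw [← e]
    exact K.inv_mem (K.pow_mem (hB _ h1) t)
  · rw [pow_one, pow_mul, ← pow_mul (m ^ j), mul_comm, pow_mul, hcK _ (hB _ h1)]

include hf hk hH hb in
theorem two_mul_mem (h2 : p = 2) (B : Subgroup H) [B.Normal] (hKB : pPrimeCore p H ≤ B)
    (hB : ∀ b ∈ B, b ^ 2 ∈ pPrimeCore p H) {z w : H} (hz : z ∈ B) (hz' : z ∉ pPrimeCore p H)
    (hw : w ∈ B) (hw' : w ∉ pPrimeCore p H) : z * w ∈ pPrimeCore p H := by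
  have key : ∀ z ∈ B, z ∉ pPrimeCore p H → ∀ c ∈ pPrimeCore p H, z * c = c⁻¹ * z := by
    intro z hz hz' c hc
    have e1 := (two_good f hf hk hH hb h2 B hB (m := z) (j := 1) (by simpa using hz)
      (by simpa using hz')).2
    have e2 := (two_good f hf hk hH hb h2 B hB (m := z * c) (j := 1)
      (by simpa using B.mul_mem hz (hKB hc))
      (by rw [pow_one]; exact fun h => hz' ((mul_mem_cancel_right hc).1 h))).2
    rw [pow_two, mul_eq_one_iff_eq_inv] at e1 e2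
    rw [e2, mul_inv_rev, ← e1]
  refine fit_le hH (Solv.centralizer_fitting_le fun c hc => ?_)
  have hc' := fit_le hH hc
  rw [mul_assoc, key w hw hw' c hc', ← mul_assoc, ← mul_assoc, key z hz hz' _ (inv_mem hc'),
    inv_inv]

include hf hk hH hb in
theorem two_top (h2 : p = 2) (b : H) : b ^ 2 ∈ pPrimeCore p H := by
  set K := pPrimeCore p H with hK
  have h0 : K ∈ {B : Subgroup H | B.Normal ∧ K ≤ B ∧ ∀ b ∈ B, b ^ 2 ∈ K} :=
    ⟨inferInstance, le_rfl, fun b hb => K.pow_mem hb 2⟩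
  obtain ⟨B, ⟨hBn, hKB, hB⟩, hmax⟩ := (Set.toFinite _).exists_maximal ⟨_, h0⟩
  by_cases htop : B = ⊤
  · exact hB b (htop ▸ mem_top b)
  exfalso
  haveI : Nontrivial (H ⧸ B) := QuotientGroup.nontrivial_iff.2 htop
  obtain ⟨s, M0, hs, hM0, hM1, -, hexp, -, -⟩ := Solv.exists_normal_elementary (H ⧸ B)
  set M := M0.comap (QuotientGroup.mk' B) with hM
  have hBM : B ≤ M := fun x hx => by
    rw [hM, mem_comap, QuotientGroup.mk'_apply, (QuotientGroup.eq_one_iff x).2 hx]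
    exact one_mem _
  have hMs : ∀ m ∈ M, m ^ s ∈ B := fun m hm => (QuotientGroup.eq_one_iff _).1 (hexp _ hm)
  obtain ⟨m0, hm0, hm0B⟩ : ∃ m ∈ M, m ∉ B := by
    by_contra h
    push Not at h
    refine hM1 (eq_bot_iff.2 fun x hx => ?_)
    obtain ⟨y, rfl⟩ := QuotientGroup.mk'_surjective B x
    exact (QuotientGroup.eq_one_iff y).2 (h y hx)
  have hout : ∀ m ∈ M, m ∉ B → m ^ s ∈ K := fun m hm hmB =>
    by_contra fun h => hmB (two_good f hf hk hH hb h2 B hB (hMs m hm) h).1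
  rcases hs.eq_two_or_odd' with rfl | hso
  · refine hm0B (hmax ⟨inferInstance, hKB.trans hBM, fun m hm => ?_⟩ hBM hm0)
    by_cases hmB : m ∈ B
    · exact hB m hmB
    · exact hout m hm hmB
  by_cases hBK : B ≤ K
  · refine hm0B (hKB (Solv.le_pPrimeCore (N := M) ?_ hm0))
    rw [Nat.coprime_comm, Nat.Prime.coprime_iff_not_dvd hp.out]
    intro hd
    obtain ⟨x, hx⟩ := exists_prime_orderOf_dvd_card' p hd
    have e1 : orderOf (x : H) ∣ s * Nat.card K := orderOf_dvd_of_pow_eq_one (by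
      rw [pow_mul]
      exact congrArg Subtype.val (pow_card_eq_one' (x := (⟨_, hBK (hMs x x.2)⟩ : K))))
    rw [orderOf_coe, hx] at e1
    rcases (Nat.Prime.dvd_mul hp.out).1 e1 with h | h
    · rw [h2] at h
      exact (Nat.not_even_iff_odd.2 hso) (even_iff_two_dvd.2 h)
    · exact Solv.not_dvd_card_pPrimeCore p H h
  obtain ⟨z, hz, hzK⟩ := SetLike.not_le_iff_exists.1 hBK
  have e1 := hout m0 hm0 hm0B
  have e2 := hout (m0 * z) (M.mul_mem hm0 (hBM hz)) fun h => hm0B ((mul_mem_cancel_right hz).1 h)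
  have e3 : z ^ 2 = 1 := (two_good f hf hk hH hb h2 B hB (m := z) (j := 1) (by simpa using hz)
    (by simpa using hzK)).2
  have e4 := two_mul_mem f hf hk hH hb h2 B hKB hB (hBn.conj_mem z hz m0)
    (fun h => hzK (by simpa [mul_assoc] using (inferInstance : K.Normal).conj_mem _ h m0⁻¹))
    (B.inv_mem hz) (fun h => hzK (inv_mem_iff.1 h))
  set π := QuotientGroup.mk' K with hπ
  have hker : ∀ a : H, π a = 1 ↔ a ∈ K := fun a => QuotientGroup.eq_one_iff a
  have e5 : Commute (π m0) (π z) := by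
    rw [← commutatorElement_eq_one_iff_commute, ← map_commutatorElement, hker]
    exact e4
  have e6 := (hker _).2 e2
  rw [map_pow, map_mul, e5.mul_pow, ← map_pow, (hker _).2 e1, one_mul, ← map_pow, hker] at e6
  obtain ⟨t, rfl⟩ := hso
  rw [pow_succ, pow_mul, e3, one_pow, one_mul] at e6
  exact hzK e6

include hf hk hH hb in
theorem card_dvd_prime {Q : Subgroup H} (hQ : IsPGroup p Q) : Nat.card Q ∣ p := by
  obtain ⟨z, h1, h3⟩ : ∃ z : H, z ^ p = 1 ∧ Q ≤ zpowers z := by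
    by_cases h2 : p = 2
    swap
    · exact odd_case f hf hk hH hb h2 hQ
    by_cases hQ0 : Q = ⊥
    · exact ⟨1, one_pow _, hQ0 ▸ bot_le⟩
    have hQK : ∀ a ∈ Q, a ∈ pPrimeCore p H → a = 1 := fun a ha h =>
      mem_bot.1 (Solv.inf_pPrimeCore_eq_bot hQ ▸ (⟨ha, h⟩ : a ∈ Q ⊓ pPrimeCore p H))
    obtain ⟨⟨a, ha⟩, ha1⟩ := (ne_bot_iff_exists_ne_one).1 hQ0
    have ha1' : a ≠ 1 := fun e => ha1 (Subtype.ext e)
    have htop := two_top f hf hk hH hb h2
    refine ⟨a, hQK _ (Q.pow_mem ha p) (h2 ▸ htop a), fun c hc => ?_⟩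
    by_cases hc1 : c = 1
    · rw [hc1]; exact one_mem _
    have := hQK _ (Q.mul_mem ha hc) (two_mul_mem f hf hk hH hb h2 ⊤ le_top (fun b _ => htop b)
      (mem_top a) (fun h => ha1' (hQK a ha h)) (mem_top c) fun h => hc1 (hQK c hc h))
    rw [mul_eq_one_iff_inv_eq] at this
    rw [← this]
    exact inv_mem (mem_zpowers a)
  exact (card_dvd_of_le h3).trans (Nat.card_zpowers z ▸ orderOf_dvd_of_pow_eq_one h1)

end

theorem card_map_dvd {G : Type*} [Group G] [Finite G] [Group.IsSolvable G] {p : ℕ} [Fact p.Prime]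
    (hb : ∀ g g' : G, Van g → p ∣ orderOf g → Van g' → p ∣ orderOf g' → orderOf g = orderOf g')
    (P : Sylow p G) : Nat.card ((P : Subgroup G).map (QuotientGroup.mk' (pCore p G))) ∣ p :=
  card_dvd_prime (QuotientGroup.mk' (pCore p G)) (QuotientGroup.mk'_surjective _)
    (by rw [QuotientGroup.ker_mk']; exact Solv.isPGroup_pCore p G)
    (Solv.pCore_quotient_pCore p G) hb (P.isPGroup'.map _)

end Cfsg.Agent.Mult.NV
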