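import Cfsg.Agent.Mult.Fo8
import Cfsg.Agent.ChAut.TwNode
import Cfsg.Prelude.Def_LocalEven

/-! `p`-minimal groups with a normal subgroup `K`: the data `PM` on `K` (`exists_pm`), the outcome
`Res`, and the analysis for twisted groups (`Fold.res`, `Fold.not_stdTrans`). -/

set_option autoImplicit false

namespace Cfsg.Agent.Mult

open Cfsg.Lie Cfsg.Agent.Chev Cfsg.Agent.Chev.Sys Cfsg.Agent.ChAut Subgroup
open scoped Pointwise

attribute [-simp] zsmul_eq_mul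

section
variable {p : ℕ} {K K' : Type*} [Group K] [Group K']

/-- The largest invariant proper overgroup of `U`. -/
structure PM (p : ℕ) (U : Subgroup K) (A : Subgroup (MulAut K)) (Y : Subgroup K) : Prop where
  pg : ∀ θ ∈ A, ∃ k, θ ^ p ^ k = 1
  fix : ∀ θ ∈ A, ∀ u ∈ U, θ u ∈ U
  ne : Y ≠ ⊤
  le : normalizer (U : Set K) ≤ Y
  inv : ∀ θ ∈ A, ∀ y ∈ Y, θ y ∈ Y
  max : ∀ Z : Subgroup K, Z ≠ ⊤ → U ≤ Z → (∀ θ ∈ A, ∀ y ∈ Z, θ y ∈ Z) → Z ≤ Y

theorem exists_pm {X : Type*} [Group X] [Finite X] [Fact p.Prime] (hX : IsPMinimal p X) (K : Subgroup X)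
    [K.Normal] (U : Sylow p K) (hU : ¬ (U : Subgroup K).Normal) :
    ∃ A Y, PM p (U : Subgroup K) A Y ∧
      (Y ≤ normalizer (U : Set K) → IsCoatom (normalizer (((U : Subgroup K).map K.subtype : Subgroup X) : Set X))) ∧
      (K = ⊤ → ∀ θ ∈ A, ∃ u ∈ (U : Subgroup K), θ = MulAut.conj u) := by
  obtain ⟨T, hT⟩ := (U.isPGroup'.map K.subtype).exists_le_sylow
  set V := (U : Subgroup K).map K.subtype with hV
  obtain ⟨-, M, ⟨hM, hTM⟩, hu⟩ := hX T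
  have h1 : ∀ k : K, (k : X) ∈ T ↔ k ∈ U := fun k => by
    have := U.is_maximal' (T.isPGroup'.comap_subtype (K := K)) (map_le_iff_le_comap.1 hT)
    change k ∈ (T : Subgroup X).comap K.subtype ↔ _
    rw [this]; rfl
  have h1' : ∀ k : K, (k : X) ∈ V ↔ k ∈ U := fun k => mem_map_iff_mem K.subtype_injective
  have h2 : ∀ W : Subgroup X, W ≠ ⊤ → (T : Subgroup X) ≤ W → W ≤ M := fun W h h' => by
    obtain ⟨M', a, b⟩ := (eq_top_or_exists_le_coatom W).resolve_left h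
    exact hu M' ⟨a, h'.trans b⟩ ▸ b
  have h3 : ∀ t ∈ T, ∀ u ∈ U, MulAut.conjNormal t u ∈ U := fun t ht u hu =>
    (h1 _).1 (mul_mem (mul_mem ht ((h1 u).2 hu)) (inv_mem ht))
  have h4 : ∀ Z : Subgroup K, (∀ t ∈ T, ∀ u ∈ Z, MulAut.conjNormal t u ∈ Z) →
      (T : Subgroup X) ≤ normalizer (Z.map K.subtype : Set X) := fun Z h t ht => by
    refine mem_normalizer_fintype ?_
    rintro _ ⟨u, hu, rfl⟩
    exact ⟨_, h t ht u hu, rfl⟩
  have h5 : ∀ k : K, (k : X) ∈ normalizer (V : Set X) ↔ k ∈ normalizer (U : Set K) := fun k => by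
    refine ⟨fun h => mem_normalizer_fintype fun u hu => (h1' _).1 ((mem_normalizer_iff.1 h u).1 ((h1' u).2 hu)),
      fun h => mem_normalizer_fintype ?_⟩
    rintro _ ⟨u, hu, rfl⟩
    exact ⟨_, (mem_normalizer_iff.1 h u).1 hu, rfl⟩
  have h6 : normalizer (V : Set X) ≤ M := h2 _ (fun h => hU (normalizer_eq_top_iff.1 (eq_top_iff.2 fun k _ =>
    (h5 k).1 (h ▸ mem_top _)))) (h4 U h3)
  have h7 := Sylow.normalizer_sup_eq_top U
  refine ⟨(T : Subgroup X).map MulAut.conjNormal, M.subgroupOf K, ⟨?_, ?_, fun h => hM.1 ?_, fun k hk =>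
    h6 ((h5 k).2 hk), ?_, fun Z a b d k hk => ?_⟩, fun h => ?_, ?_⟩
  · rintro _ ⟨t, ht, rfl⟩
    obtain ⟨k, hk⟩ := T.isPGroup' ⟨t, ht⟩
    exact ⟨k, by rw [← map_pow, show t ^ p ^ k = 1 from congrArg Subtype.val hk, map_one]⟩
  · rintro _ ⟨t, ht, rfl⟩
    exact h3 t ht
  · exact top_le_iff.1 (h7.ge.trans (sup_le h6 (subgroupOf_eq_top.1 h)))
  · rintro _ ⟨t, ht, rfl⟩ y hy
    exact mul_mem (mul_mem (hTM ht) hy) (inv_mem (hTM ht))
  · have e := coe_mul_of_right_le_normalizer_left _ _ (h4 Z fun t ht => d _ ⟨t, ht, rfl⟩)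
    refine h2 (Z.map K.subtype ⊔ T) (fun h => a (eq_top_iff.2 fun y _ => ?_)) le_sup_right
      (mem_sup_left ⟨k, hk, rfl⟩)
    obtain ⟨_, ⟨z, hz, rfl⟩, t, ht, e'⟩ := e.le (show (y : X) ∈ _ from h ▸ mem_top _)
    have e2 : t = (z⁻¹ * y : K) := by simp [← e']
    exact mul_inv_cancel_left z y ▸ mul_mem hz (b ((h1 _).1 (e2 ▸ ht)))
  · convert hM using 1
    refine le_antisymm h6 fun m hm => ?_
    obtain ⟨n, hn, k, hk, rfl⟩ := (Set.mem_mul.1 ((mul_normal _ K).le (show m ∈ _ from h7 ▸ mem_top m)))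
    exact mul_mem hn ((h5 ⟨k, hk⟩).2 (h ((mul_mem_cancel_left (h6 hn)).1 hm)))
  · rintro rfl _ ⟨t, ht, rfl⟩
    exact ⟨⟨t, mem_top t⟩, (h1 _).1 ht, MulEquiv.ext fun x => Subtype.ext rfl⟩

theorem PM.map [Finite K] {U : Subgroup K} {A : Subgroup (MulAut K)} {Y : Subgroup K} (h : PM p U A Y)
    (e : K ≃* K') : PM p (U.comap e.symm.toMonoidHom) (A.map (MulAut.congr e).toMonoidHom)
      (Y.comap e.symm.toMonoidHom) := by
  have h0 : ∀ (θ : MulAut K) y, e.symm (MulAut.congr e θ y) = θ (e.symm y) := fun θ y => by simp [MulAut.congr]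
  refine ⟨?_, ?_, fun e' => h.ne (eq_top_iff.2 fun y _ => by simpa using e'.ge (mem_top (e y))),
    fun y hy => h.le (mem_normalizer_fintype fun u hu => ?_), ?_, fun Z a b d z hz => ?_⟩
  · rintro _ ⟨θ, a, rfl⟩
    exact (h.pg θ a).imp fun k hk => by rw [← map_pow, hk, map_one]
  · rintro _ ⟨θ, a, rfl⟩ u hu
    exact (congrArg (· ∈ U) (h0 θ u)).mpr (h.fix θ a _ hu)
  · simpa using (mem_normalizer_iff.1 hy (e u)).1 (by simpa using hu)
  · rintro _ ⟨θ, a, rfl⟩ u hu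
    exact (congrArg (· ∈ Y) (h0 θ u)).mpr (h.inv θ a _ hu)
  · refine h.max (Z.comap e.toMonoidHom) (fun e' => a (eq_top_iff.2 fun y _ => by
      simpa using e'.ge (mem_top (e.symm y)))) (fun u hu => b (by simpa using hu)) (fun θ a y hy => ?_)
      (by simpa using hz)
    simpa [MulAut.congr] using d _ ⟨θ, a, rfl⟩ _ hy

variable (p) in
/-- The outcome for one subgroup `U`. -/
def Res (U : Subgroup K) (c d : Prop) : Prop :=
  ∀ A Y, PM p U A Y → Y ≤ normalizer (U : Set K) ∧ d ∧ ((∀ θ ∈ A, ∃ u ∈ U, θ = MulAut.conj u) → c)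

theorem Res.mono {U : Subgroup K} {c d c' d' : Prop} (h : Res p U c d) (h1 : d → c → c') (h2 : d → d') :
    Res p U c' d' := fun A Y a => ⟨(h A Y a).1, h2 (h A Y a).2.1, fun b => h1 (h A Y a).2.1 ((h A Y a).2.2 b)⟩

theorem Res.of_equiv [Finite K] [Fact p.Prime] {c d : Prop} (e : K ≃* K') {P : Sylow p K'}
    (h : Res p (P : Subgroup K') c d) (U : Sylow p K) : Res p (U : Subgroup K) c d := by
  have := Finite.of_equiv _ e.toEquiv
  obtain ⟨z, hz⟩ := MulAction.exists_smul_eq K' (U.mapSurjective (f := e.toMonoidHom) e.surjective) P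
  intro A Y a
  set e' := e.trans (MulAut.conj z)
  have h1 : (U : Subgroup K).comap e'.symm.toMonoidHom = P := by
    rw [← hz, Sylow.coe_subgroup_smul, comap_equiv_eq_map_symm', pointwise_smul_def]
    exact (map_map (U : Subgroup K) (MulAut.conj z).toMonoidHom e.toMonoidHom).symm
  obtain ⟨b1, b2, b3⟩ := h _ _ (h1 ▸ a.map e')
  refine ⟨fun y hy => mem_normalizer_fintype fun u hu => ?_, b2, fun b => b3 ?_⟩
  · have := (mem_normalizer_iff.1 (b1 (show e' y ∈ _ by simpa using hy)) (e' u)).1 (by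
      rw [← h1]; simpa using (show u ∈ (U : Subgroup K) from hu))
    rw [← h1] at this
    change y * u * y⁻¹ ∈ (U : Subgroup K)
    simpa using this
  · rintro _ ⟨θ, hθ, rfl⟩
    obtain ⟨u, hu, rfl⟩ := b θ hθ
    exact ⟨e' u, by rw [← h1]; simpa using hu, MulEquiv.ext fun x => by simp [MulAut.congr]⟩

theorem RO.res [Finite K] [Fact p.Prime] (h : RO p K) (U : Sylow p K) : Res p (U : Subgroup K) True True :=
  fun A Y a => ⟨fun y hy => by_contra fun hn => a.ne (eq_top_iff.2 fun g _ => by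
    have h1 : y • U ≠ U := fun e => hn (Sylow.smul_eq_iff_mem_normalizer.1 e)
    by_cases e : g • U = U
    · exact a.le (Sylow.smul_eq_iff_mem_normalizer.1 e)
    obtain ⟨u, hu, e'⟩ := h.tr U _ _ h1 e
    have h2 := a.le (Sylow.smul_eq_iff_mem_normalizer.1 (show (g⁻¹ * (u * y)) • U = U by
      rw [mul_smul, mul_smul, e', inv_smul_smul]))
    exact inv_mem_iff.1 ((mul_mem_cancel_right (mul_mem (a.le (le_normalizer hu)) hy)).1 h2)), trivial,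
    fun _ => trivial⟩

end

variable {D : ChevalleyDatum} [Good D] {S : Sym D}

theorem commute_of_orth {I J : Set (Sm D)} (h : ∀ a ∈ I, ∀ b ∈ J, car a (sm b) = 0) {w w' : WG D}
    (hw : w ∈ WJ I) (hw' : w' ∈ WJ J) : Commute w w' := by
  refine WJ_induction (P := fun w => Commute w w') (Commute.one_left _) (fun a ha w _ ih => .mul_left ?_ ih) hw
  refine WJ_induction (P := fun w => Commute (sr a) w) (Commute.one_right _)
    (fun b hb w _ ih => .mul_right ?_ ih) hw'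
  have := rW_conj (sr a) (sm b)
  rw [sr_smul, refl_of_A_eq_zero (by rw [A_sm, h a ha b hb]), rW_sm, eq_mul_inv_iff_mul_eq] at this
  exact this.symm

theorem exists_leaf : ∃ a : Sm D, ∀ b ≠ a, ∀ c ≠ a, car a (sm b) ≠ 0 → car a (sm c) ≠ 0 → b = c := by
  classical
  by_contra! hn
  have i0 : Sm D := ⟨0, lt_of_lt_of_le two_pos Good.two_le_rank⟩
  obtain ⟨μ, -, hμ⟩ := Finset.exists_max_image Finset.univ (ht (D := D)) ⟨sm i0, Finset.mem_univ _⟩
  have h1 : Pos μ := pos_iff_ht.2 (by have := hμ (sm i0) (Finset.mem_univ _); rw [ht_sm] at this; omega)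
  have h2 : ∀ j, 0 ≤ car j μ := fun j => by
    have := hμ (refl (sm j) μ) (Finset.mem_univ _)
    simp only [ht, rtv_refl, A_sm, rtv_sm, Pi.sub_apply, Pi.smul_apply, smul_eq_mul, Finset.sum_sub_distrib,
      ← Finset.mul_sum, Finset.sum_pi_single', Finset.mem_univ, if_true] at this
    omega
  have h3 : ∀ a : Sm D, ∑ j, car a (sm j) ≤ 0 := fun a => by
    obtain ⟨b, hb, c, hc, e1, e2, e3⟩ := hn a
    have := car_nonpos hb
    have := car_nonpos hc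
    have e4 : ∑ j ∈ ((Finset.univ.erase a).erase b).erase c, car a (sm j) ≤ 0 :=
      Finset.sum_nonpos fun j hj => car_nonpos (by simp at hj; tauto)
    rw [← Finset.add_sum_erase _ _ (Finset.mem_univ a), ← Finset.add_sum_erase _ _ (show b ∈ _ by simpa using hb),
      ← Finset.add_sum_erase _ _ (show c ∈ _ by simp [hc, e3.symm]), car_sm_self]
    omega
  have h4 : ∑ j, A μ (sm j) ≤ 0 := by
    simp only [A]
    rw [Finset.sum_comm]
    refine Finset.sum_nonpos fun a _ => ?_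
    rw [← Finset.mul_sum]
    exact mul_nonpos_of_nonneg_of_nonpos ((cov_nonneg_iff μ a).2 (h1 a)) (h3 a)
  obtain ⟨i, -, hi⟩ := h1.exists_car_pos
  refine h4.not_gt (Finset.sum_pos' (fun j _ => ?_) ⟨i, Finset.mem_univ _, A_pos_comm (by rwa [A_sm])⟩)
  rcases (h2 j).eq_or_lt with e | e
  · exact (A_eq_zero_comm (by rw [A_sm, ← e])).ge
  · exact (A_pos_comm (by rwa [A_sm])).le

theorem orb_eq_of_w1 {i j : Sm D} (h : S.w1 i = S.w1 j) : S.orb i = S.orb j :=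
  S.orb_eq (inJ_sm.1 (mem_Inv_w0.1 (show sm i ∈ Inv (S.w1 j) from
    h ▸ mem_Inv_w0.2 ⟨pos_sm i, inJ_sm.2 (S.mem_orb i)⟩)).2)

theorem exists_car_orb {a j : Sm D} (h : ¬ (S.w1 a * S.w1 j) ^ 2 = 1) : ∃ b ∈ S.orb j, b ≠ a ∧ car a (sm b) ≠ 0 := by
  have h1 : ¬ Commute (S.w1 a) (S.w1 j) := fun e => h (by
    rw [e.mul_pow, sq, sq, Sym.w1, Sym.w1, w0_mul_self, w0_mul_self, mul_one])
  obtain ⟨a', ha, b', hb, e⟩ : ∃ a' ∈ S.orb a, ∃ b' ∈ S.orb j, car a' (sm b') ≠ 0 := by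
    by_contra! e
    exact h1 (commute_of_orth e (w0_mem _) (w0_mem _))
  obtain ⟨b, hb, e⟩ := S.orb_induction (P := fun a => ∃ b ∈ S.orb j, car a (sm b) ≠ 0) ⟨b', hb, e⟩
    (fun a ⟨b, hb, e⟩ => ⟨S.π b, (S.π_mem_orb j b).2 hb, fun e' => by
      have := sym_m_car S a (sm b)
      rw [S.ρ_sm, e', mul_zero, eq_comm, mul_eq_zero] at this
      exact this.elim (S.m_pos _).ne' e⟩) (show a ∈ S.orb a' from S.orb_eq ha ▸ S.mem_orb a)
  exact ⟨b, hb, fun e' => h1 (by rw [Sym.w1, Sym.w1, ← S.orb_eq hb, e']), e⟩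

theorem not_sq_of_car {a b i j : Sm D} (ha : a ∈ S.orb i) (hb : b ∈ S.orb j) (h : b ∉ S.orb i)
    (e : car a (sm b) ≠ 0) : ¬ (S.w1 i * S.w1 j) ^ 2 = 1 := fun e' => by
  refine e (car_eq_zero_of_comm_w0 (I := S.orb i) (J := S.orb j) (fun k h1 h2 => h ?_) ?_ ha hb)
  · rwa [← S.orb_eq h1, S.orb_eq h2]
  · rw [sq, ← eq_inv_iff_mul_eq_one, mul_inv_rev, Sym.w1, Sym.w1, w0_inv, w0_inv] at e'
    exact e'

variable [Conn D] {F : Type*} [Field F] {G : Type*} [Group G] {X : Sys D F G} {Γ : Subgroup G}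

variable (X S Γ) in
/-- The standard automorphisms are transitive on the nodes. -/
def StdTrans : Prop := ∀ i j, ∃ θ : MulAut Γ, Std X θ ∧ Pres θ (Up1 X S i) (Up1 X S j)

theorem mem_of_mem_P (c : X.Cover) {J : Set (Sm D)} (hJ : ∀ i, S.π i ∈ J ↔ i ∈ J) {k : Sm D} {y : G}
    (h1 : y ∈ X.P (S.orb k)) (h2 : y ∈ X.P J) (h3 : y ∉ X.B) : k ∈ J := by
  obtain ⟨w, hw, hc⟩ := exists_cell_of_mem_P h1
  obtain ⟨i, hi, e⟩ := exists_not_pos_of_mem hw fun e => h3 (c.mem_B_of_cell (e ▸ hc))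
  by_contra hk
  exact e (pos_smul_of_not_inJ ((c.mem_P_iff hc).1 h2) (pos_sm i) fun e => orb_disj hJ hk i hi (inJ_sm.1 e))

variable (h : X.Fold S Γ) (c : X.Cover)
include h c

theorem Fold.not_stdTrans {i j k : Sm D} (h1 : S.orb i ≠ S.orb j) (h2 : S.orb i ≠ S.orb k)
    (h3 : S.orb j ≠ S.orb k) : ¬ StdTrans S X Γ := fun ht => by
  obtain ⟨a, ha⟩ := exists_leaf (D := D)
  have key : ∀ i j k, ¬ (S.w1 i * S.w1 j) ^ 2 = 1 → ¬ (S.w1 i * S.w1 k) ^ 2 = 1 → S.orb j = S.orb k := by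
    intro i j k a1 a2
    obtain ⟨θ, b1, b2⟩ := ht i a
    obtain ⟨j', b3, -⟩ := b1.node h c j
    obtain ⟨k', b4, -⟩ := b1.node h c k
    rw [← orderOf_dvd_iff_pow_eq_one] at a1 a2
    obtain ⟨b, d1, d2, d3⟩ := exists_car_orb (S := S) (a := a) (j := j') (by
      rwa [← orderOf_dvd_iff_pow_eq_one, b1.orderOf_w1 h c b2 b3])
    obtain ⟨b', e1, e2, e3⟩ := exists_car_orb (S := S) (a := a) (j := k') (by
      rwa [← orderOf_dvd_iff_pow_eq_one, b1.orderOf_w1 h c b2 b4])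
    obtain rfl := ha b d2 b' e2 d3 e3
    have := b1.orderOf_w1 h c b3 b4
    rw [Sym.w1, Sym.w1, ← S.orb_eq d1, ← S.orb_eq e1, w0_mul_self, orderOf_one, eq_comm, orderOf_eq_one_iff,
      mul_eq_one_iff_eq_inv] at this
    exact orb_eq_of_w1 (this.trans (w0_inv _))
  obtain ⟨a, a1, b, a2, a3⟩ := exists_adj (J := S.orb i) ⟨i, S.mem_orb i⟩
    ⟨j, fun e => h1 (S.orb_eq e).symm⟩
  have a4 := not_sq_of_car a1 (S.mem_orb b) a2 a3
  have a5 : ∀ l, l ∈ S.orb i ∪ S.orb b := fun l => by_contra fun hl => by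
    obtain ⟨a', b1, d, b2, b3⟩ := exists_adj (J := S.orb i ∪ S.orb b) ⟨i, .inl (S.mem_orb i)⟩ ⟨l, hl⟩
    rcases b1 with b1 | b1
    · exact b2 (.inr (key i b d a4 (not_sq_of_car b1 (S.mem_orb d) (fun e => b2 (.inl e)) b3) ▸ S.mem_orb d))
    · refine b2 (.inl (key b i d (fun e => a4 ?_) (not_sq_of_car b1 (S.mem_orb d) (fun e => b2 (.inr e)) b3) ▸
        S.mem_orb d))
      rw [← inv_eq_one, ← inv_pow, mul_inv_rev, Sym.w1, Sym.w1, w0_inv, w0_inv]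
      exact e
  rcases a5 j with e | e
  · exact h1 (S.orb_eq e).symm
  rcases a5 k with e' | e'
  · exact h2 (S.orb_eq e').symm
  · exact h3 ((S.orb_eq e).trans (S.orb_eq e').symm)

theorem Fold.res [Finite F] [Finite G] (m : X.Mult) (p : ℕ) [Fact p.Prime] :
    Res p (X.UP.subgroupOf Γ) (∀ i j, S.orb i = S.orb j) (StdTrans S X Γ ∧
      ∀ i j, S.orb i ≠ S.orb j → (∀ k, S.orb k = S.orb i ∨ S.orb k = S.orb j) → p = 2) := by
  intro A Y a
  have hT := Fold.nice h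
  have h1 : ∀ θ ∈ A, Pres θ X.UP X.UP := fun θ b y =>
    ⟨fun e => by simpa [mem_subgroupOf] using a.fix _ (inv_mem b) _ e, a.fix θ b y⟩
  have h2 : ∀ θ ∈ A, Pres θ X.B X.B := fun θ b y => by
    rw [mem_B_iff_norm h c y.2, mem_B_iff_norm h c (θ y).2]; exact (h1 θ b).norm y
  have h3 : X.B.subgroupOf Γ = normalizer (X.UP.subgroupOf Γ : Set Γ) := by
    ext y
    rw [mem_subgroupOf, mem_B_iff_norm h c y.2]
    exact ⟨fun e => mem_normalizer_fintype fun u hu => e u hu u.2,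
      fun e u hu hu' => (mem_normalizer_iff.1 e ⟨u, hu'⟩).1 hu⟩
  have h4 : ∀ Z : Subgroup Γ, X.UP.subgroupOf Γ ≤ Z → X.UP ⊓ Γ ≤ Z.map Γ.subtype := fun Z b u hu =>
    ⟨⟨u, hu.2⟩, b hu.1, rfl⟩
  have h5 : ¬ ∀ i, ∃ y ∈ Y, (y : G) ∈ X.P (S.orb i) ∧ (y : G) ∉ X.B := fun b => a.ne (eq_top_iff.2 fun y _ => by
    obtain ⟨z, b1, _, ⟨y', b2, rfl⟩, e⟩ := Fold.over_trans h c hT (h4 Y (Subgroup.le_normalizer.trans a.le))
      (map_subtype_le Y) (fun i => let ⟨y, b1, b2⟩ := b i; ⟨y, ⟨y, b1, rfl⟩, b2⟩) y.2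
    have : y * y'⁻¹ ∈ Y := a.le (h3.le (show ((y * y'⁻¹ : Γ) : G) ∈ X.B by simpa [e] using b1))
    exact (mul_mem_cancel_right (inv_mem b2)).1 this)
  have h6 : ∀ i, ∃ y : Γ, (y : G) ∈ X.P (S.orb i) ∧ (y : G) ∉ X.B := fun i =>
    let ⟨n, b1, b2, b3⟩ := h.exN i; ⟨⟨n, b3⟩, mem_P_of_mon c b1 b2⟩
  have h7 : ∀ {θ : MulAut Γ} {i j k}, Pres θ X.B X.B → Pres θ (X.P (S.orb i)) (X.P (S.orb j)) →
      Pres θ (X.P (S.orb i)) (X.P (S.orb k)) → S.orb j = S.orb k := fun {θ i j k} b0 b1 b2 => by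
    obtain ⟨y, d1, d2⟩ := h6 i
    exact S.orb_eq (mem_of_mem_P c (S.π_mem_orb k) ((b1 y).2 d1) ((b2 y).2 d1) fun e => d2 ((b0 y).1 e))
  have h8 : ∀ i j, ∃ θ ∈ A, Pres θ (X.P (S.orb i)) (X.P (S.orb j)) := by
    by_contra! b
    obtain ⟨i0, j0, b⟩ := b
    refine h5 fun i => ?_
    let O := {j | ∃ θ ∈ A, Pres θ (X.P (S.orb i)) (X.P (S.orb j))}
    have o1 : ∀ j, S.π j ∈ O ↔ j ∈ O := fun j => by
      simp only [O, Set.mem_ofPred_eq, S.orb_eq ((S.π_mem_orb j j).2 (S.mem_orb j))]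
    obtain ⟨y, d1, d2⟩ := h6 i
    refine ⟨y, a.max ((X.P O).subgroupOf Γ) (fun e => ?_) (fun u hu => X.B_le_P _ (X.UP_le_B hu))
      (fun θ d y hy => ?_) (X.P_mono (S.orb_subset o1 ⟨1, one_mem _, .one _⟩) d1), d1, d2⟩
    · have o2 : ∀ j, j ∈ O := fun j => let ⟨y, d1, d2⟩ := h6 j; mem_of_mem_P c o1 d1 (e.ge (mem_top y)) d2
      obtain ⟨θ, o3, o4⟩ := o2 i0
      obtain ⟨θ', o5, o6⟩ := o2 j0
      exact b _ (mul_mem o5 (inv_mem o3)) (o6.mul o4.inv)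
    · refine X.P_mono (fun k hk => ?_) (Fold.over_le h c hT (h4 (((X.P O).subgroupOf Γ).map θ.toMonoidHom)
        fun u hu => ⟨θ⁻¹ u, X.B_le_P _ (X.UP_le_B (((h1 θ d).inv u).2 hu)), by simp⟩) (map_subtype_le _)
        ⟨_, ⟨y, hy, rfl⟩, rfl⟩)
      obtain ⟨_, ⟨_, ⟨z, hz, rfl⟩, rfl⟩, e1, e2⟩ := hk
      obtain ⟨k', e3⟩ := (h2 θ d).inv.parab h c k
      obtain ⟨θ', e4, e5⟩ : k' ∈ O := mem_of_mem_P c o1 ((e3.inv z).1 (by simpa using e1)) hz
        fun e => e2 ((h2 θ d z).2 e)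
      exact ⟨θ * θ', mul_mem d e4, Pres.mul (by simpa using e3.inv) e5⟩
  refine ⟨h3 ▸ fun y hy => by_contra fun hn => h5 fun j => ?_, ⟨fun i j => ?_, fun i j b1 b2 => ?_⟩,
    fun b i j => ?_⟩
  · have b1 := Fold.over_le h c hT (h4 Y (Subgroup.le_normalizer.trans a.le)) (map_subtype_le Y) ⟨y, hy, rfl⟩
    obtain ⟨k, _, ⟨z, hz, rfl⟩, b2, b3⟩ : Set.Nonempty {i | ∃ m ∈ Y.map Γ.subtype, m ∈ X.P (S.orb i) ∧ m ∉ X.B} :=
      Set.nonempty_iff_ne_empty.2 fun e => hn (by rwa [e, P_empty] at b1)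
    obtain ⟨θ, d1, d2⟩ := h8 k j
    exact ⟨θ z, a.inv θ d1 z hz, (d2 z).2 b2, fun e => b3 ((h2 θ d1 z).1 e)⟩
  · obtain ⟨θ, d1, d2⟩ := h8 i j
    obtain ⟨g, d3⟩ := exists_std h c m θ
    have d4 : (g : G) ∈ X.B := (mem_B_iff_norm h c g.2).2 fun u hu hu' => by
      simpa using ((d3.up.mul (h1 θ d1).inv) ⟨u, hu'⟩).2 hu
    obtain ⟨j', d5, d6⟩ := d3.node h c i
    obtain ⟨v, e1, e2, e3⟩ := Fold.exists_Un1 h i
    have e4 : ∀ {k v}, v ∈ Un1 X S k → v ∈ X.P (S.orb k) := fun hv => by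
      rw [P_eq]; exact mem_sup_right (X.U_mono (fun _ h => .inr h.2) hv)
    have e5 := (d6 ⟨v, e2⟩).2 e1
    have e6 : j' ∈ S.orb j := mem_of_mem_P c (S.π_mem_orb j) (e4 e5)
      (mul_mem (mul_mem (X.B_le_P _ d4) ((d2 ⟨v, e2⟩).2 (e4 e1))) (inv_mem (X.B_le_P _ d4))) fun e => e3 (by
        simpa using c.eq_one_of_B_UN e (X.U_mono (fun _ h => h.1) e5))
    exact ⟨_, d3, by simpa only [Up1, S.orb_eq e6] using d5⟩
  · obtain ⟨θ, d1, d2⟩ := h8 i j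
    obtain ⟨k, d3⟩ := (h2 θ d1).parab h c j
    by_contra hp
    have d4 : Pres (θ * θ) (X.P (S.orb i)) (X.P (S.orb i)) := by
      rcases b2 k with e | e
      · exact (e ▸ d3).mul d2
      · exact absurd (h7 (h2 θ d1).inv d2.inv (e ▸ d3).inv) b1
    obtain ⟨n, hn⟩ := a.pg θ d1
    obtain ⟨l, hl⟩ := ((Fact.out : p.Prime).odd_of_ne_two hp).pow (n := n)
    have d5 : ∀ l, Pres ((θ * θ) ^ l) (X.P (S.orb i)) (X.P (S.orb i)) := fun l => by
      induction l with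
      | zero => exact .one _
      | succ l ih => exact pow_succ (θ * θ) l ▸ ih.mul d4
    have d6 := d2.mul (d5 l)
    rw [← sq, ← pow_mul, ← pow_succ', ← hl, hn] at d6
    exact b1 (h7 (.one _) (.one _) d6)
  · obtain ⟨θ, d1, d2⟩ := h8 i j
    obtain ⟨u, hu, rfl⟩ := b θ d1
    have d3 : (u : G) ∈ _ := X.B_le_P (S.orb i) (X.UP_le_B hu)
    exact h7 (h2 _ d1) (pres_conj fun y => by
      rw [mul_mem_cancel_right (inv_mem d3), mul_mem_cancel_left d3]) d2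

end Cfsg.Agent.Mult
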