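import Cfsg.Agent.Mult.Pm1
import Cfsg.Agent.ChAut.Types
import Cfsg.Agent.ChAut.TwD4
import Cfsg.Agent.ChAut.TwF4
import Cfsg.Agent.ChAut.Fix
import Cfsg.Agent.Classical.LowIso
import Cfsg.Agent.Gen2.Basic
import Cfsg.Prelude.Def_AlmostLie

/-! The outcome `Res` of `p`-minimality for the families of groups of Lie type (`res_lieType`) and for
derived groups of index two (`Fold.not_pm`). -/

set_option autoImplicit false

namespace Cfsg.Agent.Mult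

open Cfsg.Lie Cfsg.Agent.Chev Cfsg.Agent.Chev.Sys Cfsg.Agent.ChAut Subgroup
open scoped Pointwise commutatorElement

attribute [-simp] zsmul_eq_mul
attribute [local instance 100] LieRing.ofAssociativeRing

section
variable {D : ChevalleyDatum} [Good D] [Conn D] {S : Sym D} {F : Type*} [Field F] {G : Type*} [Group G]
  {X : Sys D F G} {Γ : Subgroup G}

omit [Conn D] in
theorem not_stdTrans_of_card {i j : Sm D} (h : Nat.card ↥(Up1 X S j ⊓ Γ) ≠ Nat.card ↥(Up1 X S i ⊓ Γ)) :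
    ¬ StdTrans S X Γ := fun ht => let ⟨_, _, b⟩ := ht i j; h b.card_eq

omit [Conn D] in
theorem exists_co (c : X.Cover) (i : Sm D) : ∃ co : G → F, ∀ y ∈ X.UP, ∀ t,
    co y = t ↔ (X.x (sm i) t)⁻¹ * y ∈ X.U {r | Pos r ∧ r ≠ sm i} := by
  have : ∀ y ∈ X.UP, ∃ t, ∀ t', t = t' ↔ (X.x (sm i) t')⁻¹ * y ∈ X.U {r | Pos r ∧ r ≠ sm i} := fun y hy => by
    obtain ⟨a, ha, b, hb, rfl⟩ := exists_mul nilp_Pos {sm i} hy
    obtain ⟨t, rfl⟩ := mem_U_singleton.1 (X.U_mono (fun _ h => h.2) ha)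
    refine ⟨t, fun t' => ⟨fun e => by rw [e, inv_mul_cancel_left]; exact hb, fun e => by_contra fun e' => ?_⟩⟩
    rw [← mul_assoc, mul_mem_cancel_right (show b ∈ X.U {r | Pos r ∧ r ≠ sm i} from hb), ← X.x_neg, ← X.add] at e
    exact (c.mem_of_x_mem_U (Nilp.erase nilp_Pos (r := sm i) ((htF_rtv _).trans (ht_sm i))) (nilp_Pos.pos _ (pos_sm i))
      (fun h => e' (by linear_combination h)) e).2 rfl
  choose! co h using this
  exact ⟨co, h⟩

theorem Invol.card_le [Finite F] {α : X.Aut S} (c : X.Cover) {i : Sm D}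
    (ho : ∀ j ∈ S.orb i, ∀ k ∈ S.orb i, k ≠ j → car j (sm k) = 0) (h2 : S.π (S.π i) = i) :
    Nat.card ↥(Up1 X S i ⊓ α.fix) ≤ Nat.card F ∧
      (S.π i = i → (∃ t, α.a (sm i) t ≠ t) → Nat.card ↥(Up1 X S i ⊓ α.fix) < Nat.card F) := by
  obtain ⟨co, h⟩ := exists_co c i
  have h0 : Up1 X S i ≤ X.UP := X.U_mono fun _ h => h.1
  have n1 : ∀ j, Nilp (htF D) {r | Pos r ∧ r ≠ sm j} := fun j => Nilp.erase nilp_Pos ((htF_rtv _).trans (ht_sm j))
  have h1 : ∀ y ∈ Up1 X S i, y ∈ X.U {r | Pos r ∧ r ≠ sm i} → y ∈ X.U {r | Pos r ∧ r ≠ sm (S.π i)} → y = 1 := by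
    intro y a b d
    have e1 := (c.U_inf_U (n1 i) (nilp_posJ (S.orb i))).le ⟨b, a⟩
    have e2 := (c.U_inf_U (n1 (S.π i)) (T := {r | Pos r ∧ r ≠ sm i} ∩ {r | Pos r ∧ InJ (S.orb i) r})
      ⟨fun r h => (n1 i).pos r h.1, fun a ha b hb k hk => ⟨(n1 i).closed a ha.1 b hb.1 k hk,
        (nilp_posJ _).closed a ha.2 b hb.2 k hk⟩⟩).le ⟨d, e1⟩
    refine (X.U_empty).le (X.U_mono (fun r hr => ?_) e2)
    obtain ⟨j, rfl⟩ := eq_sm_of_orth ho hr.1.1 hr.2.2.2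
    have := inJ_sm.1 hr.2.2.2
    rw [S.orb_eq3 i (.inr h2), h2] at this
    rcases this with rfl | rfl | rfl
    exacts [hr.2.1.2 rfl, hr.1.2 rfl, hr.2.1.2 rfl]
  have h3 : Function.Injective fun y : ↥(Up1 X S i ⊓ α.fix) => co y := fun y z e => by
    have a := mul_mem (inv_mem ((h _ (h0 y.2.1) _).1 e)) ((h _ (h0 z.2.1) _).1 rfl)
    rw [mul_inv_rev, inv_inv, mul_assoc, mul_inv_cancel_left] at a
    have b := mul_mem (inv_mem y.2) z.2
    exact Subtype.ext (inv_mul_eq_one.1 (h1 _ b.1 a (by_contra fun e =>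
      α.top_orb b.2 ((S.π_mem_orb i i).2 (S.mem_orb i)) e a)))
  refine ⟨Nat.card_le_card_of_injective _ h3, fun e ⟨t, ht⟩ => (Nat.card_le_card_of_injective _ h3).lt_of_ne
    fun e' => ?_⟩
  obtain ⟨y, hy⟩ := (h3.bijective_of_nat_card_le e'.ge).2 t
  have a := (h _ (h0 y.2.1) _).1 hy
  have b := inv_mul_eq_one.1 (h1 _ (mul_mem (inv_mem (X.x_mem_U (And.intro (pos_sm i) (inJ_sm.2 (S.mem_orb i))) _))
    y.2.1) a (e.symm ▸ a))
  have d : α.σ y = y := y.2.2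
  rw [← b, α.σ_x, S.ρ_sm, e, ← mul_inv_eq_one, ← X.x_neg, ← X.add] at d
  exact ht (by linear_combination c.x_eq_one d)

theorem Invol.le_card [Finite F] {α : X.Aut S} (hα : Invol α) (c : X.Cover) {i : Sm D} (h2 : S.π i ≠ i) :
    Nat.card F ≤ Nat.card ↥(Up1 X S i ⊓ α.fix) ∧
      (car i (sm (S.π i)) = -1 → Nat.card F < Nat.card ↥(Up1 X S i ⊓ α.fix)) := by
  obtain ⟨co, h⟩ := exists_co c i
  have h0 : Up1 X S i ≤ X.UP := X.U_mono fun _ h => h.1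
  have : Finite (Up1 X S i) := Nat.finite_of_card_ne_zero (by
    rw [Up1, c.card_U (nilp_posJ _)]; exact pow_ne_zero _ Nat.card_pos.ne')
  have : Finite ↥(Up1 X S i ⊓ α.fix) := .of_injective _ (inclusion_injective inf_le_left)
  have h3 : Function.Surjective fun y : ↥(Up1 X S i ⊓ α.fix) => co y := fun t => by
    obtain ⟨y, a, b⟩ := hα.exists_fix c (.inl rfl) t fun e => absurd (sm_injective (S.ρ_sm i ▸ e)) h2
    have d : X.x (sm i) t * y ∈ Up1 X S i := mul_mem (X.x_mem_U (And.intro (pos_sm i) (inJ_sm.2 (S.mem_orb i))) _)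
      (U_imp a fun r hr => ⟨hr.2.1.2 (pos_sm i), hr.2.2⟩)
    exact ⟨⟨_, d, b⟩, (h _ (h0 d) _).2 (by
      simpa using U_imp a fun r hr => And.intro (hr.2.1.2 (pos_sm i)) hr.1)⟩
  refine ⟨Nat.card_le_card_of_surjective _ h3, fun e => (Nat.card_le_card_of_surjective _ h3).lt_of_ne fun e' => ?_⟩
  have b1 : A (sm i) (S.ρ (sm i)) = -1 := by rw [S.ρ_sm, A_sm, e]
  obtain ⟨t, a1, a2⟩ := hα.ex _ (hα.ρ_refl (.inl rfl) b1)
  have b3 : Comb (sm i) (S.ρ (sm i)) (refl (sm i) (S.ρ (sm i))) :=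
    ⟨1, 1, le_rfl, le_rfl, by rw [rtv_refl, b1]; module⟩
  have b4 := b3.pos (pos_sm i) (S.pos_ρ.2 (pos_sm i))
  have b5 := b3.inJ (inJ_sm.2 (S.mem_orb i)) ((S.inJ_ρ (S.π_mem_orb i)).2 (inJ_sm.2 (S.mem_orb i)))
  have b6 : refl (sm i) (S.ρ (sm i)) ≠ sm i := fun e => by
    have := A_refl_self (sm i) (S.ρ (sm i))
    rw [b1, e, A_self] at this
    omega
  have := (h3.bijective_of_nat_card_le e'.ge).1 (a₁ := ⟨X.x _ t, X.x_mem_U (And.intro b4 b5) t, Aut.mem_fix.2 (by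
    rw [α.σ_x, hα.ρ_refl (.inl rfl) b1, a2])⟩) (a₂ := 1)
      (((h _ (X.x_mem_U b4 t) 0).2 (by simpa using X.x_mem_U (And.intro b4 b6) t)).trans
        ((h _ (one_mem _) 0).2 (by simp)).symm)
  exact a1 (c.x_eq_one (congrArg Subtype.val this))

theorem Fold.not_pm (h : X.Fold S Γ) (c : X.Cover) (hB : X.B ⊓ Γ ≤ X.UP) (hS : ∀ i, (S.orb i)ᶜ.Nonempty)
    (h2 : ∀ y : Γ, ∃ u : Γ, (u : G) ∈ X.UP ∧ y * u ∈ commutator Γ)
    (hA : ∀ θ : MulAut (commutator Γ), ∃ g : Γ, θ = MulAut.conjNormal g) [Finite G] {p : ℕ} {c' d : Prop} :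
    Res p ((X.UP.subgroupOf Γ).subgroupOf (commutator Γ)) c' d := fun A Y a => False.elim <| by
  have hT := Fold.nice h
  have h0 : ∀ y : Γ, y ∈ commutator Γ ↔ (y : G) ∈ ⁅Γ, Γ⁆ := fun y => by
    rw [← map_subtype_commutator]; exact (mem_map_iff_mem Γ.subtype_injective).symm
  have h1 : ∀ θ ∈ A, ∃ g : Γ, (g : G) ∈ X.B ∧ θ = MulAut.conjNormal g := fun θ hθ => by
    obtain ⟨g, rfl⟩ := hA θ
    refine ⟨g, ?_, rfl⟩
    have b1 : X.UP ⊓ Γ ≤ normalizer (X.UP ⊓ ⁅Γ, Γ⁆ : Subgroup G) ⊓ Γ := fun u hu =>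
      ⟨Loc.le_normalizer_inf (inf_le_left.trans Subgroup.le_normalizer)
        (inf_le_right.trans (normalizer_commutator_ge_left _ _)) hu, hu.2⟩
    have b2 := Fold.over_le h c hT b1 inf_le_right (show (g : G) ∈ _ from ⟨mem_normalizer_fintype fun u hu => by
      have e := commutator_le_self Γ hu.2
      exact ⟨a.fix _ hθ ⟨⟨u, e⟩, (h0 _).2 hu.2⟩ hu.1, conj_mem_of_norm (normalizer_commutator_ge_left _ _ g.2) hu.2⟩,
        g.2⟩)
    refine (P_empty (X := X)).le (X.P_mono (fun i hi => False.elim ?_) b2)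
    obtain ⟨m, d1, d2, d3⟩ := hi
    obtain ⟨n, e1, e2, e3⟩ := h.exN i
    have e4 := mem_P_of_mon c e1 e2
    obtain ⟨b, f1, f2, b', f3, f4, e⟩ := ((mem_P_orb h c e3 d1.2 d2 d3).1 e4.1).resolve_left e4.2
    have e5 : n ∈ normalizer (X.UP ⊓ ⁅Γ, Γ⁆ : Subgroup G) :=
      e ▸ mul_mem (mul_mem (b1 ⟨hB ⟨f1, f2⟩, f2⟩).1 d1.1) (b1 ⟨hB ⟨f3, f4⟩, f4⟩).1
    obtain ⟨u, g1, g2, g3, g4⟩ := exists_ne_one h i
    obtain ⟨s, g5, r, g6, rfl⟩ := Fold.up_of_comm h le_rfl (hS i) ⟨g2, g3⟩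
    refine c.not_mem_B_conj e2 ((UI_w1 (X := X) S i).ge g1) g4 (X.UP_le_B ?_)
    have := mul_mem (conj_mem_of_norm e5 g5).1 (X.U_mono (fun _ h => h.1)
      (conj_mem_of_norm (X.P_le_normalizer _ e4.1) g6))
    simpa [mul_assoc] using this
  have h3 : ∀ j, ∃ y : commutator Γ, ((y : Γ) : G) ∈ X.P (S.orb j) ∧ ((y : Γ) : G) ∉ X.B := fun j => by
    obtain ⟨n, e1, e2, e3⟩ := h.exN j
    have e4 := mem_P_of_mon c e1 e2
    obtain ⟨u, e5, e6⟩ := h2 ⟨n, e3⟩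
    exact ⟨⟨_, e6⟩, mul_mem e4.1 (X.B_le_P _ (X.UP_le_B e5)), fun e =>
      e4.2 ((mul_mem_cancel_right (X.UP_le_B e5)).1 e)⟩
  have h4 : ∀ i, ((X.P (S.orb i)).subgroupOf Γ).subgroupOf (commutator Γ) ≤ Y := fun i => by
    refine a.max _ (fun e => ?_) (fun u hu => X.B_le_P _ (X.UP_le_B hu)) fun θ hθ y hy => ?_
    · obtain ⟨j, hj⟩ := hS i
      obtain ⟨y, b1, b2⟩ := h3 j
      exact hj (mem_of_mem_P c (S.π_mem_orb i) b1 (e.ge (mem_top y)) b2)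
    · obtain ⟨g, b1, rfl⟩ := h1 θ hθ
      exact mul_mem (mul_mem (X.B_le_P _ b1) hy) (inv_mem (X.B_le_P _ b1))
  set W := ⨆ i, X.P (S.orb i) ⊓ ⁅Γ, Γ⁆
  have h5 : X.UP ⊓ Γ ≤ normalizer (W : Set G) := le_trans (le_iInf fun i => Loc.le_normalizer_inf
    (inf_le_left.trans (X.UP_le_B.trans ((X.B_le_P _).trans Subgroup.le_normalizer)))
    (inf_le_right.trans (normalizer_commutator_ge_left _ _))) (iInf_normalizer_le_normalizer_iSup _)
  have h6 : W ≤ ⁅Γ, Γ⁆ := iSup_le fun _ => inf_le_right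
  have h7 : W ≤ (Y.map (commutator Γ).subtype).map Γ.subtype := iSup_le fun i y hy =>
    ⟨⟨y, commutator_le_self Γ hy.2⟩, ⟨⟨⟨y, commutator_le_self Γ hy.2⟩, (h0 _).2 hy.2⟩,
      h4 i hy.1, rfl⟩, rfl⟩
  refine a.ne (eq_top_iff.2 fun y _ => ?_)
  obtain ⟨b, b1, m, b2, e⟩ := Fold.over_trans h c hT (M := W ⊔ X.UP ⊓ Γ) le_sup_right
    (sup_le (h6.trans (commutator_le_self Γ)) inf_le_right) (fun i => let ⟨y, b1, b2⟩ := h3 i;
      ⟨_, mem_sup_left (mem_iSup_of_mem i ⟨b1, (h0 _).1 y.2⟩), b1, b2⟩) y.1.2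
  have b3 : b ∈ Γ := (mul_mem_cancel_right (sup_le (h6.trans (commutator_le_self Γ)) inf_le_right b2)).1 (e ▸ y.1.2)
  obtain ⟨w, d1, u, d2, e'⟩ := (coe_mul_of_right_le_normalizer_left _ _ h5).le
    (show (y.1 : G) ∈ _ from e ▸ mul_mem (mem_sup_right ⟨hB ⟨b1, b3⟩, b3⟩) b2)
  have i0 : Sm D := ⟨0, lt_of_lt_of_le two_pos Good.two_le_rank⟩
  have d3 : u ∈ W := mem_iSup_of_mem i0 ⟨X.B_le_P _ (X.UP_le_B d2.1),
    (mul_mem_cancel_left (h6 d1)).1 ((show w * u = _ from e') ▸ (h0 _).1 y.2)⟩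
  obtain ⟨_, ⟨z, d4, rfl⟩, d5⟩ := h7 ((show w * u = _ from e') ▸ mul_mem d1 d3)
  rwa [← show z = y from Subtype.ext (Subtype.ext d5)]

end

section
variable {D : ChevalleyDatum} [Good D] [Conn D] {S : Sym D} {F : Type} [Field F] [Finite F] {p : ℕ} [Fact p.Prime]
  [CharP F p] {K : Type*} [Group K] [Finite K]

omit [Conn D] in
theorem orb_ne {i j : Sm D} (h : S.π (S.π i) = i ∧ j ≠ i ∧ j ≠ S.π i) : S.orb i ≠ S.orb j := fun e => by
  have := e ▸ S.mem_orb j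
  rw [S.orb_eq3 i (.inr h.1), h.1] at this
  exact this.elim h.2.1 fun a => a.elim h.2.2 h.2.1

theorem res_ad {Γ : Subgroup (GL D.Idx F)} (h : (adS D F).Fold S Γ) (e : K ≃* Γ) (U : Sylow p K) :
    Res p (U : Subgroup K) (∀ i j, S.orb i = S.orb j) (StdTrans S (adS D F) Γ ∧
      (∀ i j k, S.orb i ≠ S.orb j → S.orb i ≠ S.orb k → S.orb j = S.orb k) ∧ ∀ i j, S.orb i ≠ S.orb j → p = 2) := by
  have c := adCover D F
  obtain ⟨P, hP⟩ := exists_sylow_UP h c (adS_mult D F) p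
  refine (Res.of_equiv e (P := P) (hP ▸ Fold.res h c (adS_mult D F) p) U).mono (fun _ a => a) fun a => ?_
  have b : ∀ i j k, S.orb i ≠ S.orb j → S.orb i ≠ S.orb k → S.orb j = S.orb k := fun i j k b1 b2 =>
    by_contra fun b3 => Fold.not_stdTrans h c b1 b2 b3 a.1
  exact ⟨a.1, b, fun i j d => a.2 i j d fun k => or_iff_not_imp_left.2 fun e => b i k j (Ne.symm e) d⟩

theorem res_quot {G L : Type*} [Group G] [Group L] {X : Sys D F G} {Γ : Subgroup G} (h : X.Fold S Γ) (f : Full X)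
    (e : L ≃* Γ) (e' : K ≃* L ⧸ center L) (U : Sylow p K) :
    Res p (U : Subgroup K) (∀ i j, S.orb i = S.orb j)
      ((∀ i j, Nat.card ↥(Up1 X S i ⊓ Γ) = Nat.card ↥(Up1 X S j ⊓ Γ)) ∧
      (∀ i j k, S.orb i ≠ S.orb j → S.orb i ≠ S.orb k → S.orb j = S.orb k) ∧ ∀ i j, S.orb i ≠ S.orb j → p = 2) :=
  (res_ad (h.map f.c f.top) (e'.trans ((Geom.quotCenterCongr e).trans (Fold.quotEquiv h f))) U).mono (fun _ a => a)
    fun a => ⟨fun i j => by_contra fun b => not_stdTrans_of_card (i := j) (j := i) (by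
      unfold Up1 at b ⊢
      rwa [h.card_map_U f.c f.top fun _ h => h.1, h.card_map_U f.c f.top fun _ h => h.1]) a.1, a.2⟩

omit [Conn D] in
theorem not_tri_one (h : 3 ≤ D.rank) : ¬ ∀ i j k, (Sym.one D).orb i ≠ (Sym.one D).orb j →
    (Sym.one D).orb i ≠ (Sym.one D).orb k → (Sym.one D).orb j = (Sym.one D).orb k := fun e => by
  simpa [orb_one, Fin.ext_iff] using e ⟨0, by omega⟩ ⟨1, by omega⟩ ⟨2, by omega⟩

omit [Conn D] in
theorem not_all_one : (Sym.one D).orb ⟨0, lt_of_lt_of_le two_pos Good.two_le_rank⟩ ≠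
    (Sym.one D).orb ⟨1, Good.two_le_rank⟩ := by simp [orb_one, Fin.ext_iff]

theorem res_full {G : Type*} [Group G] {X : Sys D F G} (f : Full X) (e : K ≃* G ⧸ center G) (U : Sylow p K) :
    Res p (U : Subgroup K) False (D.rank = 2 ∧ p = 2) :=
  (res_quot f.fold f topEquiv.symm e U).mono (fun _ a => not_all_one (a _ _)) fun a =>
    ⟨le_antisymm (not_lt.1 fun b => not_tri_one b a.2.1) Good.two_le_rank, a.2.2 _ _ not_all_one⟩

theorem res_chev (e : K ≃* D.group F) (h : 3 ≤ D.rank) (U : Sylow p K) : Res p (U : Subgroup K) False False :=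
  (res_ad (foldOne D F) e U).mono (fun a _ => not_tri_one h a.2.1) fun a => not_tri_one h a.2.1

theorem not_stdTrans_of_pi (h : Nat.card (piHom D F).range = 1) :
    ¬ StdTrans (Sym.one D) (adS D F) (D.group F) := fun a => by
  obtain ⟨i, j, e⟩ : ∃ i j, (Sym.one D).orb i ≠ (Sym.one D).orb j := ⟨_, _, not_all_one⟩
  obtain ⟨θ, b1, b2⟩ := a i j
  obtain ⟨u, φ, b3⟩ := exists_isSh_pi ⟨θ, b1⟩
  have b5 := (b2 ((grS D F).x (sm i) 1)).2 ((adS D F).x_mem_U (And.intro (pos_sm i) (inJ_sm.2 (Sym.mem_orb _ i))) _)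
  rw [(b3 _).1, show piHom D F ⟨θ, b1⟩ = 1 from (card_eq_one.1 h).le ⟨_, rfl⟩] at b5
  exact e (Sym.orb_eq _ (inJ_sm.1 ((adCover D F).mem_of_x_mem_U (nilp_posJ _) (nilp_Pos.pos _ (pos_sm _))
    (by simp) b5).2))

theorem res_G2 (e : K ≃* chevG2.group F) (U : Sylow p K) : Res p (U : Subgroup K) False False := by
  refine (res_ad (foldOne chevG2 F) e U).mono (fun _ a => not_all_one (a _ _)) fun a => ?_
  obtain rfl := a.2.2 _ _ not_all_one
  exact not_stdTrans_of_pi (by rw [(grG2 F).2, ringChar.eq F 2]; rfl) a.1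

theorem res_PSU {F : Type} [Field F] [Fintype F] [CharP F p] {q : ℕ} (hF : Fintype.card F = q ^ 2) {n : ℕ}
    (hn : 3 ≤ n) (e : K ≃* PSU n F q) (U : Sylow p K) : Res p (U : Subgroup K) True (n = 3) := by
  obtain ⟨l, rfl⟩ := Nat.exists_eq_add_of_le' (show 1 ≤ n by omega)
  obtain ⟨σ, h1, h2, h3⟩ := exists_frobq hF
  have hl : 2 ≤ l := by omega
  obtain ⟨e'⟩ := exists_equiv_SU hl hF h1
  have h := invol_autSU hl h2 h3
  have c := slFull hl F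
  have hπ : ∀ i : Fin l, (symA hl).π i = i.rev := fun _ => rfl
  have hc : ∀ i j : Fin l, car (D := (mdA l hl).D) i (sm j) =
      if i = j then 2 else if i.val + 1 = j ∨ j.val + 1 = i then -1 else 0 := fun i j => by
    rw [MD.sm_q, MD.car_q, mdA_a]
    simp only [mdA, Fin.ext_iff, Fin.val_succ, Fin.val_castSucc]
    split_ifs <;> omega
  refine (res_quot (h.fold c.c le_rfl (c.top ▸ le_top) inf_le_right inf_le_right) c e' e U).mono (fun _ _ => trivial)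
    fun ⟨a, b, _⟩ => by_contra fun hn => ?_
  obtain rfl | rfl | h5 : l = 3 ∨ l = 4 ∨ 5 ≤ l := by omega
  · obtain ⟨t, ht⟩ : ∃ t, -σ t ≠ t := by_contra fun e => by
      push Not at e
      obtain ⟨t, ht⟩ := h3
      have h4 : -1 = (1 : F) := by simpa using e 1
      exact ht (by linear_combination -e t + t * h4)
    refine ((Invol.card_le c.c (i := (1 : Fin 3)) ?_ rfl).2 rfl ⟨t, by simpa [autSU, autOf] using ht⟩).not_ge
      ((h.le_card c.c (i := (0 : Fin 3)) (by simp [hπ])).1.trans (a _ _).le)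
    rw [Sym.orb_eq3 _ _ (.inr rfl)]
    simp [hπ]
  · refine ((h.le_card c.c (i := (1 : Fin 4)) (by simp [hπ])).2 (hc _ _)).not_ge
      ((a _ _).le.trans (Invol.card_le c.c (i := (0 : Fin 4)) ?_ rfl).1)
    rw [Sym.orb_eq3 _ _ (.inr rfl)]
    simp [hπ, hc]
  · exact orb_ne (by simp [hπ, Fin.ext_iff]; omega) (b (⟨0, by omega⟩ : Fin l) (⟨1, by omega⟩ : Fin l)
      (⟨2, by omega⟩ : Fin l)
      (orb_ne (by simp [hπ, Fin.ext_iff]; omega)) (orb_ne (by simp [hπ, Fin.ext_iff]; omega)))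

open Cfsg.Agent.AutCl in
theorem res_minus {F₀ : Type} [Field F₀] [Finite F₀] [CharP F₀ p] {l : ℕ} (hm : 4 ≤ l) {a b : F₀}
    (hab : ∀ z₁ z₂ : F₀, z₁ ^ 2 + a * z₁ * z₂ + b * z₂ ^ 2 = 0 → z₁ = 0 ∧ z₂ = 0)
    (e' : K ≃* POmega F₀ (quadFormMinus (l - 1) F₀ a b)) (U : Sylow p K) : Res p (U : Subgroup K) False False := by
  obtain ⟨F, _, _, hF, -⟩ := exists_quad_ext hab
  have := Module.finite_of_finrank_pos (hF ▸ two_pos)
  have := Module.finite_of_finite F₀ (M := F)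
  have := Fintype.ofFinite F
  have := charP_of_injective_algebraMap (algebraMap F₀ F).injective p
  have hc : Nat.card F = Nat.card F₀ ^ 2 := by rw [Module.natCard_eq_pow_finrank (K := F₀), hF]
  obtain ⟨τ, h1, -⟩ := exists_frobq (Nat.card_eq_fintype_card.symm.trans hc)
  have hτ := orderOf_frobq (Nat.card_eq_fintype_card.symm.trans hc) h1
  obtain ⟨f, hf⟩ := exists_isFix τ F₀ (by rw [hτ, hc])
  obtain ⟨Γ, h2, h3, ⟨e⟩⟩ := exists_sub_minus hm p hf hτ hab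
  have h := invol_autOm hm τ hτ
  have c := plusFull (Nat.le_of_succ_le hm) F
  have hπ : ∀ i : Fin l, (symD (Nat.le_of_succ_le hm)).π i = Equiv.swap ⟨l - 2, by omega⟩ ⟨l - 1, by omega⟩ i :=
    fun _ => rfl
  have h5 : ∀ i j : Fin l, i.val < 2 → j ≠ i →
      (symD (Nat.le_of_succ_le hm)).orb i ≠ (symD (Nat.le_of_succ_le hm)).orb j := fun i j a b => by
    have : (symD (Nat.le_of_succ_le hm)).π i = i := (hπ i).trans (Equiv.swap_apply_of_ne_of_ne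
      (by simp [Fin.ext_iff]; omega) (by simp [Fin.ext_iff]; omega))
    exact orb_ne (by rw [this, this]; exact ⟨rfl, b, b⟩)
  have h6 := (res_quot (h.fold c.c h2 (c.top ▸ le_top) (fun y hy => h3 y hy.2 (exists_pow_of_mem c.c p (.inl hy.1)))
    fun y hy => h3 y hy.2 (exists_pow_of_mem c.c p (.inr hy.1))) c e e' U).mono (c' := True) (fun _ _ => trivial)
    fun a => h5 _ _ (by simp) (by simp [Fin.ext_iff]) (a.2.1 (⟨0, by omega⟩ : Fin l) (⟨1, by omega⟩ : Fin l)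
      (⟨2, by omega⟩ : Fin l) (h5 _ _ (by simp) (by simp [Fin.ext_iff])) (h5 _ _ (by simp) (by simp [Fin.ext_iff])))
  exact h6.mono (fun a _ => a) id

theorem res_lieType (h : IsLieTypeChar p K) (U : Sylow p K) : Res p (U : Subgroup K) (IsLieRankOneChar p K)
    (IsLieRankOneChar p K ∨ p = 2 ∧ ((∃ (F : Type) (_ : Field F) (_ : Fintype F) (_ : CharP F 2),
      Nonempty (K ≃* Matrix.ProjectiveSpecialLinearGroup (Fin 3) F)) ∨
      ∃ (F : Type) (_ : Field F) (_ : Fintype F) (_ : CharP F 2), 4 ≤ Fintype.card F ∧ Nonempty (K ≃* PSp 2 F))) := by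
  have k : ∀ {c d e}, Res p (U : Subgroup K) c d → (d → IsLieRankOneChar p K) →
    Res p (U : Subgroup K) (IsLieRankOneChar p K) (IsLieRankOneChar p K ∨ e) := fun h a =>
      h.mono (fun b _ => a b) fun b => .inl (a b)
  rcases h with ⟨F, _, _, _, n, h1, h2, ⟨e⟩⟩ | ⟨F, _, _, _, n, h1, h2, ⟨e⟩⟩ | ⟨F, _, _, _, n, q, h1, h2, h3, ⟨e⟩⟩ |
    ⟨F, _, _, _, n, h1, h2, ⟨e⟩⟩ | ⟨F, _, _, _, n, h1, ⟨e⟩⟩ | ⟨F, _, _, _, n, a, b, h1, h2, ⟨e⟩⟩ |
    ⟨F, _, _, _, ⟨-, ⟨e⟩⟩ | ⟨⟨e⟩⟩ | ⟨⟨e⟩⟩ | ⟨⟨e⟩⟩ | ⟨⟨e⟩⟩⟩ | ⟨F, _, _, _, q, h1, ⟨h2, ⟨e⟩⟩ | ⟨h2, ⟨e⟩⟩⟩ | ⟨rfl, h⟩ |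
    ⟨rfl, F, _, _, m, h1, h2, ⟨e⟩⟩ | ⟨rfl, F, _, _, m, h1, h2, ⟨e⟩⟩
  · obtain rfl | h := h1.eq_or_lt
    · exact k ((ro_PSL2 e).res U) fun _ => .inl ⟨F, _, _, ‹_›, h2 rfl, ⟨e⟩⟩
    · obtain ⟨l, rfl⟩ : ∃ l, n = l + 1 := ⟨n - 1, by omega⟩
      refine (res_full (slFull (show 2 ≤ l by omega) F) e U).mono (fun _ => False.elim) fun ⟨a, b⟩ => ?_
      obtain rfl : l = 2 := a
      subst b
      exact .inr ⟨rfl, .inl ⟨F, _, ‹_›, ‹_›, ⟨e⟩⟩⟩
  · refine (res_full (spFull h1 F) e U).mono (fun _ => False.elim) fun ⟨a, b⟩ => ?_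
    obtain rfl : n = 2 := a
    subst b
    obtain ⟨m, -, hm⟩ := FiniteField.card F 2
    refine .inr ⟨rfl, .inr ⟨F, _, _, ‹_›, (h2 rfl).lt_of_ne fun e => ?_, ⟨e⟩⟩⟩
    exact absurd (e.trans hm ▸ dvd_pow_self 2 m.ne_zero) (by decide)
  · exact k (res_PSU h1 h2 e U) fun a => by subst a; exact .inr (.inl ⟨F, _, _, ‹_›, q, h1, fun b => h3 ⟨rfl, b⟩, ⟨e⟩⟩)
  · exact k (res_full (oddFull (show 2 ≤ n by omega) F (Classical.two_ne_zero_iff_odd.2
      (Nat.card_eq_fintype_card (α := F) ▸ h2))) e U) fun a => absurd (show n = 2 from a.1) (by omega)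
  · exact k (res_full (plusFull (show 3 ≤ n by omega) F) e U) fun a => absurd (show n = 2 from a.1) (by omega)
  · exact k (res_minus h1 h2 e U) False.elim
  · exact k (res_G2 e U) False.elim
  iterate 4 exact k (res_chev e (by decide) U) False.elim
  · obtain ⟨φ, a, b⟩ := exists_φE6 h1 (Nat.card_eq_fintype_card.trans h2)
    exact k (res_ad (foldE6 a b) e U) fun d => absurd (d.2.1 ⟨0, by decide⟩ ⟨1, by decide⟩ ⟨2, by decide⟩
      (orb_ne (by decide +kernel)) (orb_ne (by decide +kernel))) (orb_ne (by decide +kernel))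
  · replace h2 := Nat.card_eq_fintype_card.trans h2
    obtain ⟨φ, a, b⟩ := exists_φD4 h1 h2
    refine k (res_ad (foldD4 a b) e U) fun d => absurd d.1 (not_stdTrans_of_card (i := ⟨0, by decide⟩)
      (j := ⟨1, by decide⟩) ?_)
    rw [(lnD41 a b h1.one_lt h2).card, (lnD40 a b h1.one_lt h2).card, card_fixF a h1.one_lt h2, h2]
    exact (lt_self_pow₀ h1.one_lt (by decide)).ne
  · exact k ((ro_Sz h).res U) fun _ => .inr (.inr (.inl ⟨rfl, h⟩))
  · obtain ⟨hp, φ, a, b⟩ := exists_sqrt_hom Nat.prime_two (Nat.card_eq_fintype_card.trans h2)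
    have := ringChar.of_eq (CharP.ringChar_of_prime_eq_zero Nat.prime_two hp)
    refine k (res_ad (foldF4 hp a b) e U) fun d => absurd d.1 (not_stdTrans_of_card (i := ⟨1, by decide⟩)
      (j := ⟨0, by decide⟩) ?_)
    rw [(lnF40 hp a b).card, card_F41 hp a b, Nat.card_prod]
    exact (lt_mul_self Finite.one_lt_card).ne
  · obtain ⟨hp, φ, a, b⟩ := exists_sqrt_hom Nat.prime_three (Nat.card_eq_fintype_card.trans h2)
    have := ringChar.of_eq (CharP.ringChar_of_prime_eq_zero Nat.prime_three hp)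
    exact k (res_ad (foldG2 hp a b) e U) fun _ => .inr (.inr (.inr ⟨rfl, .inl ⟨F, _, _, m, h1, h2, ⟨e⟩⟩⟩))

omit [Finite K] in
theorem lieType_center (h : IsLieTypeChar p K) : center K = ⊥ := by
  have k : ∀ {L : Type} [Group L], center L = ⊥ → K ≃* L → center K = ⊥ := fun h e => eq_bot_iff.2 fun g hg =>
    e.injective ((h.le (mem_center_iff.2 fun y => by
      simpa using congrArg e (mem_center_iff.1 hg (e.symm y)))).trans (map_one e).symm)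
  have k' : ∀ {L : Type} [Group L], IsFold p L → K ≃* L → center K = ⊥ := fun ⟨_, _, _, _, _, _, _, _, _, h, _, ⟨e'⟩⟩ e =>
    k h.center_eq_bot (e.trans e')
  rcases id h with ⟨F, _, _, _, n, h1, -, ⟨e⟩⟩ | ⟨F, _, _, _, n, h1, -, ⟨e⟩⟩ | ⟨F, _, _, _, n, q, h1, h2, -, ⟨e⟩⟩ |
    ⟨F, _, _, _, n, h1, h2, ⟨e⟩⟩ | ⟨F, _, _, _, n, h1, ⟨e⟩⟩ | ⟨F, _, _, _, n, a, b, h1, h2, ⟨e⟩⟩ |
    ⟨F, _, _, _, ⟨-, ⟨e⟩⟩ | ⟨⟨e⟩⟩ | ⟨⟨e⟩⟩ | ⟨⟨e⟩⟩ | ⟨⟨e⟩⟩⟩ | ⟨F, _, _, _, q, h1, ⟨h2, ⟨e⟩⟩ | ⟨h2, ⟨e⟩⟩⟩ |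
    ⟨rfl, F, _, _, m, h1, h2, ⟨e⟩⟩ | ⟨rfl, F, _, _, m, h1, h2, ⟨e⟩⟩ | ⟨rfl, F, _, _, m, h1, h2, ⟨e⟩⟩
  · obtain rfl | h := h1.eq_or_lt
    · exact k Classical.center_PSL2 e
    · obtain ⟨l, rfl⟩ : ∃ l, n = l + 1 := ⟨n - 1, by omega⟩
      exact k' (isFold_full (slFull (show 2 ≤ l by omega) F)) e
  · exact k' (isFold_full (spFull h1 F)) e
  · exact k' (isFold_PSU h1 h2) e
  · exact k' (isFold_full (oddFull (show 2 ≤ n by omega) F (Classical.two_ne_zero_iff_odd.2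
      (Nat.card_eq_fintype_card (α := F) ▸ h2)))) e
  · exact k' (isFold_full (plusFull (show 3 ≤ n by omega) F)) e
  · exact k' (isFold_minus h1 h2) e
  iterate 5 exact k' (isFold_chev _ F) e
  · exact k' (isFold_E6 h1 (Nat.card_eq_fintype_card.trans h2)) e
  · exact k' (isFold_D4 h1 (Nat.card_eq_fintype_card.trans h2)) e
  · let := Sz.titsOfCard h1 h2
    let := Sz.lieRep (Sz.titsOfCard_θ h1 h2)
    let := Sz.repOfEquiv (F := F) e
    have := lieType_simple h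
    refine (inferInstance : (center K).Normal).eq_bot_or_eq_top.resolve_right fun a => ?_
    obtain ⟨c, d, b⟩ := Sz.exists_commutator_eq (1 : F)
    have := Sz.commutator_S (G := K) c 0 d 0
    rw [b, commutatorElement_eq_one_iff_mul_comm.2 (mem_center_iff.1 (a.ge (mem_top _)) _), eq_comm] at this
    simp [Sz.S_eq_one] at this
  · exact k' (isFold_F4 h1 (Nat.card_eq_fintype_card.trans h2)) e
  · exact k' (isFold_G2 (Nat.card_eq_fintype_card.trans h2)) e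

theorem res_comm [CharP F 2] {Γ : Subgroup (GL D.Idx F)} (h : (adS D F).Fold S Γ)
    (hB : (adS D F).B ⊓ Γ ≤ (adS D F).UP) (hS : ∀ i, (S.orb i)ᶜ.Nonempty) (e : K ≃* commutator Γ)
    (hi : (commutator Γ).index = 2) (hZ : center K = ⊥) (hc : Nat.card (MulAut K) ≤ Nat.card Γ) (U : Sylow 2 K) :
    Res 2 (U : Subgroup K) False False := by
  obtain ⟨P, hP⟩ := exists_sylow_UP h (adCover D F) (adS_mult D F) 2
  refine Res.of_equiv e (P := Gen2.sylowInf P _) ?_ U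
  rw [Gen2.coe_sylowInf, hP]
  refine Fold.not_pm h (adCover D F) hB hS (fun y => ?_) fun θ => ?_
  · obtain ⟨u, a, b⟩ := SetLike.not_le_iff_exists.1 fun a : (P : Subgroup Γ) ≤ commutator Γ =>
      P.not_dvd_index (hi.symm.dvd.trans (index_dvd_of_le a))
    by_cases d : y ∈ commutator Γ
    exacts [⟨1, one_mem _, by simpa⟩, ⟨u, hP.le a, (mul_mem_iff_of_index_two hi).2 (by simp [b, d])⟩]
  have h2 : Function.Injective (MulAut.conjNormal (H := commutator Γ)) := (injective_iff_map_eq_one _).2 fun g hg =>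
    h.center_eq_bot.le (mem_center_iff.2 fun l => by
      have a : ⁅l, g⁆ ∈ commutator Γ := commutator_mem_commutator (mem_top _) (mem_top _)
      have b : e.symm ⟨_, a⟩ = 1 := hZ.le (mem_center_iff.2 fun x => e.injective (Subtype.ext (by
        have := MulAut.conjNormal_apply ⁅l, g⁆ (e x)
        rw [map_commutatorElement, hg, commutatorElement_one_right, eq_mul_inv_iff_mul_eq] at this
        simpa using this)))
      exact commutatorElement_eq_one_iff_mul_comm.1 (by simpa using b))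
  exact ((h2.bijective_of_nat_card_le ((Nat.card_congr (MulAut.congr e).toEquiv).ge.trans hc)).2 θ).imp fun _ => Eq.symm

end

end Cfsg.Agent.Mult
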