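import Mathlib.GroupTheory.Sylow
import Mathlib.GroupTheory.Perm.Cycle.Type
import Mathlib.GroupTheory.Commutator.Basic
import Mathlib.GroupTheory.SpecificGroups.KleinFour

/-! A presentation of the group `2^{2+4} : 5` of order `320`. -/

set_option autoImplicit false

namespace Cfsg.Agent.Mult
open Subgroup
open scoped commutatorElement

variable {G : Type*} [Group G]

theorem card_sup_zpowers_le [Finite G] (H : Subgroup G) (x : G) {n : ℕ} (hn : 0 < n) (hx : ∀ h ∈ H, x * h * x⁻¹ ∈ H)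
    (hxn : x ^ n ∈ H) : Nat.card ↥(H ⊔ zpowers x) ≤ n * Nat.card H := by
  have hN : zpowers x ≤ normalizer (H : Set G) := zpowers_le.2 (mem_normalizer_fintype hx)
  let f : Fin n × H → ↥(H ⊔ zpowers x) := fun p =>
    ⟨p.2 * x ^ (p.1 : ℕ), mul_mem (mem_sup_left p.2.2) (mem_sup_right (pow_mem (mem_zpowers x) _))⟩
  have hf : Function.Surjective f := by
    rintro ⟨g, hg⟩
    have hg' := hg
    rw [← SetLike.mem_coe, coe_mul_of_right_le_normalizer_left _ _ hN] at hg'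
    obtain ⟨h, hh, y, hy, rfl⟩ := hg'
    obtain ⟨k, rfl⟩ := (mem_powers_iff_mem_zpowers.2 hy)
    refine ⟨(⟨k % n, Nat.mod_lt _ hn⟩, ⟨h * (x ^ n) ^ (k / n), mul_mem hh (pow_mem hxn _)⟩), Subtype.ext ?_⟩
    simp only [f]
    rw [mul_assoc, ← pow_mul, ← pow_add, Nat.div_add_mod]
  simpa using Nat.card_le_card_of_surjective f hf

theorem norm_sup_zpowers {H : Subgroup G} {x y : G} (K : Subgroup G) (h1 : ∀ h ∈ H, x * h * x⁻¹ ∈ K)
    (h2 : x * y * x⁻¹ ∈ K) : ∀ h ∈ H ⊔ zpowers y, x * h * x⁻¹ ∈ K := by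
  have : H ⊔ zpowers y ≤ K.comap (MulAut.conj x).toMonoidHom := sup_le h1 (zpowers_le.2 h2)
  exact this

/-- defining relations -/
structure R320 (σ a : G) : Prop where
  s5 : σ ^ 5 = 1
  nm : (a * σ) ^ 5 = 1
  c1σ : Commute σ ⁅a, σ * a * σ⁻¹⁆
  c1a : Commute a ⁅a, σ * a * σ⁻¹⁆
  c1s : ⁅a, σ * a * σ⁻¹⁆ ^ 2 = 1
  c2σ : Commute σ ⁅a, σ ^ 2 * a * (σ ^ 2)⁻¹⁆
  c2a : Commute a ⁅a, σ ^ 2 * a * (σ ^ 2)⁻¹⁆
  c2s : ⁅a, σ ^ 2 * a * (σ ^ 2)⁻¹⁆ ^ 2 = 1
  uσ : Commute σ (a ^ 2)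
  us : (a ^ 2) ^ 2 = 1

theorem R320.card_le [Finite G] {σ a : G} (h : R320 σ a) : Nat.card (closure {σ, a} : Subgroup G) ≤ 320 := by
  obtain ⟨c, hc⟩ : ∃ c, c = ⁅a, σ * a * σ⁻¹⁆ := ⟨_, rfl⟩
  obtain ⟨d, hd⟩ : ∃ d, d = ⁅a, σ ^ 2 * a * (σ ^ 2)⁻¹⁆ := ⟨_, rfl⟩
  obtain ⟨u, hu⟩ : ∃ u, u = a ^ 2 := ⟨_, rfl⟩
  obtain ⟨s5, nm, cσ, ca, cs, dσ, da, ds, uσ, us⟩ := h
  rw [← hc] at cσ ca cs
  rw [← hd] at dσ da ds
  rw [← hu] at uσ us
  have ua : Commute a u := by rw [hu]; exact Commute.self_pow a 2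
  let A : ℕ → G := fun i => σ ^ i * a * (σ ^ i)⁻¹
  have hA : ∀ i, σ * A i * σ⁻¹ = A (i + 1) := fun i => by simp only [A, pow_succ']; group
  have cen : ∀ z, Commute σ z → Commute a z → ∀ i, A i * z = z * A i := fun z h1 h2 i =>
    (((h1.pow_left i).mul_left h2).mul_left (h1.pow_left i).inv_left).eq
  have cj : ∀ z, Commute σ z → ∀ i : ℕ, σ ^ i * z * (σ ^ i)⁻¹ = z := fun z h1 i => by
    rw [(h1.pow_left i).eq]; simp
  have h1 : ∀ i, A i * A (i + 1) = c * (A (i + 1) * A i) := fun i => by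
    rw [← cj c cσ i, hc]; simp only [A, commutatorElement_def, pow_succ]; group
  have h2 : ∀ i, A i * A (i + 2) = d * (A (i + 2) * A i) := fun i => by
    rw [← cj d dσ i, hd]; simp only [A, commutatorElement_def, pow_add]; group
  have h0 : ∀ i, A i * A i = u := fun i => by
    rw [← cj u uσ i, hu]; simp only [A, sq]; group
  have A5 : A 5 = A 0 := by simp [A, s5]
  have hn : A 0 * A 1 * A 2 * A 3 * A 4 = 1 := by
    rw [← nm, ← mul_one (A 0 * A 1 * A 2 * A 3 * A 4), ← s5]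
    simp only [A, pow_succ]; group
  have cc : c * c = 1 := by rw [← sq, cs]
  have dd : d * d = 1 := by rw [← sq, ds]
  have uu : u * u = 1 := by rw [← sq, us]
  have sw : ∀ {x y z : G}, x * y = z * (y * x) → z * z = 1 → y * x = z * (x * y) := fun e e' => by
    rw [e, ← mul_assoc, e', one_mul]
  have cd : d * c = c * d := by
    rw [hd]
    have e1 : Commute (σ ^ 2 * a * (σ ^ 2)⁻¹) c := cen c cσ ca 2
    exact (((ca.mul_left e1).mul_left ca.inv_left).mul_left e1.inv_left).eq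
  have h30 : A 3 * A 0 = d * (A 0 * A 3) := by rw [← A5]; exact h2 3
  have h10 := sw (h1 0) cc
  have h21 := sw (h1 1) cc
  have h32 := sw (h1 2) cc
  have h20 := sw (h2 0) dd
  have h31 := sw (h2 1) dd
  simp only [zero_add, Nat.reduceAdd] at h10 h21 h32 h20 h31
  have hucd : u = c * d := by
    have e1 : A 4 = (A 0 * A 1 * A 2 * A 3)⁻¹ := eq_inv_of_mul_eq_one_right hn
    have e2 : (A 0 * A 1 * A 2 * A 3) * (A 0 * A 1 * A 2 * A 3) = u := by
      have := h0 4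
      rw [e1, ← _root_.mul_inv_rev, inv_eq_iff_eq_inv, inv_eq_of_mul_eq_one_right uu] at this
      exact this
    have r : ∀ {x y z : G}, x * y = z → ∀ w, x * (y * w) = z * w := fun e w => by rw [← mul_assoc, e]
    have ud : u * d = d * u := by rw [hu]; exact (da.pow_left 2).eq
    have uc : u * c = c * u := by rw [hu]; exact (ca.pow_left 2).eq
    rw [← e2]
    simp only [mul_assoc, r h10, r h20, r h30, r h21, r h31, r h32, r (cen c cσ ca _), r (cen d dσ da _),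
      r (cen u uσ ua _), r (h0 _), h0, r cc, r dd, r uu, r cd, r ud, r uc, one_mul, uu, mul_one, cen u uσ ua]
  let Z := (⊥ ⊔ zpowers c) ⊔ zpowers d
  have hcZ : c ∈ Z := mem_sup_left (mem_sup_right (mem_zpowers _))
  have hdZ : d ∈ Z := mem_sup_right (mem_zpowers _)
  have nZ : ∀ x, Commute x c → Commute x d → ∀ K : Subgroup G, Z ≤ K → ∀ z ∈ Z, x * z * x⁻¹ ∈ K := fun x e1 e2 K hK =>
    norm_sup_zpowers K (norm_sup_zpowers K (fun z hz => by rw [mem_bot.1 hz]; simp) (by rw [e1.eq]; simpa using hK hcZ))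
      (by rw [e2.eq]; simpa using hK hdZ)
  have k0 : Nat.card Z ≤ 4 := by
    have e1 := card_sup_zpowers_le (⊥ : Subgroup G) c two_pos (fun z hz => by rw [mem_bot.1 hz]; simp) (by rw [cs]; simp)
    have e2 := card_sup_zpowers_le (⊥ ⊔ zpowers c) d two_pos (norm_sup_zpowers _ (fun z hz => by rw [mem_bot.1 hz]; simp)
      (by rw [cd]; simpa using mem_sup_right (mem_zpowers c))) (by rw [ds]; simp)
    rw [card_bot] at e1
    simp only [Z]; omega
  have mv : ∀ {x y z : G} (K : Subgroup G), x * y = z * (y * x) → z ∈ K → y ∈ K → x * y * x⁻¹ ∈ K := fun K e h1 h2 => by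
    rw [e]; simpa [mul_assoc] using K.mul_mem h1 h2
  have sq' : ∀ i, A i ^ 2 ∈ Z := fun i => by rw [sq, h0, hucd]; exact mul_mem hcZ hdZ
  let H1 := Z ⊔ zpowers (A 0)
  let H2 := H1 ⊔ zpowers (A 1)
  let H3 := H2 ⊔ zpowers (A 2)
  let H4 := H3 ⊔ zpowers (A 3)
  have l1 : Z ≤ H1 := le_sup_left
  have l2 : H1 ≤ H2 := le_sup_left
  have l3 : H2 ≤ H3 := le_sup_left
  have l4 : H3 ≤ H4 := le_sup_left
  have m0 : A 0 ∈ H1 := mem_sup_right (mem_zpowers _)
  have m1 : A 1 ∈ H2 := mem_sup_right (mem_zpowers _)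
  have m2 : A 2 ∈ H3 := mem_sup_right (mem_zpowers _)
  have m3 : A 3 ∈ H4 := mem_sup_right (mem_zpowers _)
  have nA : ∀ i, ∀ K : Subgroup G, Z ≤ K → ∀ z ∈ Z, A i * z * (A i)⁻¹ ∈ K := fun i =>
    nZ _ (cen c cσ ca i) (cen d dσ da i)
  have k1 := card_sup_zpowers_le Z (A 0) two_pos (nA 0 _ le_rfl) (sq' 0)
  have k2 := card_sup_zpowers_le H1 (A 1) two_pos (norm_sup_zpowers _ (nA 1 _ l1) (mv _ h10 (l1 hcZ) m0)) (l1 (sq' 1))
  have k3 := card_sup_zpowers_le H2 (A 2) two_pos (norm_sup_zpowers _ (norm_sup_zpowers _ (nA 2 _ (l1.trans l2))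
    (mv _ h20 (l2 (l1 hdZ)) (l2 m0))) (mv _ h21 (l2 (l1 hcZ)) m1)) (l2 (l1 (sq' 2)))
  have k4 := card_sup_zpowers_le H3 (A 3) two_pos (norm_sup_zpowers _ (norm_sup_zpowers _ (norm_sup_zpowers _
    (nA 3 _ ((l1.trans l2).trans l3)) (mv _ h30 (l3 (l2 (l1 hdZ))) (l3 (l2 m0)))) (mv _ h31 (l3 (l2 (l1 hdZ))) (l3 m1)))
    (mv _ h32 (l3 (l2 (l1 hcZ))) m2)) (l3 (l2 (l1 (sq' 3))))
  have m4 : A 4 ∈ H4 := by
    rw [eq_inv_of_mul_eq_one_right hn]
    exact inv_mem (mul_mem (mul_mem (mul_mem (l4 (l3 (l2 m0))) (l4 (l3 m1))) (l4 m2)) m3)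
  have k5 := card_sup_zpowers_le H4 σ (n := 5) (by norm_num) (norm_sup_zpowers _ (norm_sup_zpowers _ (norm_sup_zpowers _
    (norm_sup_zpowers _ (nZ σ cσ dσ _ (((l1.trans l2).trans l3).trans l4)) (by rw [hA]; exact l4 (l3 m1)))
    (by rw [hA]; exact l4 m2)) (by rw [hA]; exact m3)) (by rw [hA]; exact m4)) (by rw [s5]; exact one_mem _)
  have : closure {σ, a} ≤ H4 ⊔ zpowers σ := by
    rw [closure_le]
    rintro _ (rfl | rfl)
    · exact mem_sup_right (mem_zpowers _)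
    · exact mem_sup_left (by simpa [A] using l4 (l3 (l2 m0)))
  have k6 := card_le_of_le this
  change Nat.card H1 ≤ _ at k1
  change Nat.card H2 ≤ _ at k2
  change Nat.card H3 ≤ _ at k3
  change Nat.card H4 ≤ _ at k4
  omega

theorem R320.prod {G' : Type*} [Group G'] {σ a : G} {σ' a' : G'} (h : R320 σ a) (h' : R320 σ' a') :
    R320 (σ, σ') (a, a') :=
  ⟨Prod.ext h.s5 h'.s5, Prod.ext h.nm h'.nm, Prod.ext h.c1σ h'.c1σ, Prod.ext h.c1a h'.c1a, Prod.ext h.c1s h'.c1s,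
    Prod.ext h.c2σ h'.c2σ, Prod.ext h.c2a h'.c2a, Prod.ext h.c2s h'.c2s, Prod.ext h.uσ h'.uσ, Prod.ext h.us h'.us⟩

theorem R320.equiv {G' : Type*} [Group G'] [Finite G] [Finite G'] {σ a : G} {σ' a' : G'} (h : R320 σ a) (h' : R320 σ' a')
    (g : closure {σ, a} = ⊤) (g' : closure {σ', a'} = ⊤) (c : 320 ≤ Nat.card G) (c' : 320 ≤ Nat.card G') :
    Nonempty (G ≃* G') := by
  have k := (h.prod h').card_le
  set D : Subgroup (G × G') := closure {(σ, σ'), (a, a')}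
  have s1 : Function.Surjective ((MonoidHom.fst G G').comp D.subtype) := by
    rw [← MonoidHom.range_eq_top, MonoidHom.range_comp, range_subtype, MonoidHom.map_closure, ← g]
    simp [Set.image_pair]
  have s2 : Function.Surjective ((MonoidHom.snd G G').comp D.subtype) := by
    rw [← MonoidHom.range_eq_top, MonoidHom.range_comp, range_subtype, MonoidHom.map_closure, ← g']
    simp [Set.image_pair]
  exact ⟨(MulEquiv.ofBijective _ (s1.bijective_of_nat_card_le (k.trans c))).symm.trans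
    (MulEquiv.ofBijective _ (s2.bijective_of_nat_card_le (k.trans c')))⟩

theorem card_mod_of_fpf [Finite G] {p : ℕ} [Fact p.Prime] {s : G} (hs : s ^ p = 1) (A : Subgroup G)
    (hA : ∀ x ∈ A, s * x * s⁻¹ ∈ A) (hf : ∀ x ∈ A, s * x * s⁻¹ = x → x = 1) : Nat.card A ≡ 1 [MOD p] := by
  classical
  haveI := Fintype.ofFinite A
  let f : Function.End A := fun x => ⟨s * x * s⁻¹, hA x x.2⟩
  have hk : ∀ (k : ℕ) (x : A), ((f ^ k) x : G) = s ^ k * x * (s ^ k)⁻¹ := by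
    intro k
    induction k with
    | zero => intro x; simp; rfl
    | succ k ih =>
      intro x
      rw [pow_succ', pow_succ']
      change s * ((f ^ k) x : G) * s⁻¹ = _
      rw [ih]; group
  have := Equiv.Perm.card_fixedPoints_modEq (f := f) (p := p) (n := 1) (by
    funext x
    apply Subtype.ext
    rw [pow_one, hk, hs]; simp; rfl)
  rw [Nat.card_eq_fintype_card]
  convert this
  symm
  rw [Fintype.card_eq_one_iff]
  refine ⟨⟨1, Subtype.ext (by simp [f])⟩, fun x => Subtype.ext (Subtype.ext (hf _ x.1.2 (congrArg Subtype.val x.2)))⟩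

end Cfsg.Agent.Mult
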